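import Cfsg.Agent.Lib.SEA.Main
import Cfsg.Agent.Lib.SE.Main
import Cfsg.Agent.Lib.WF.Asm
import Cfsg.Agent.Lib.W0.Main
import Cfsg.Agent.Lib.W3.Main
import Cfsg.Agent.Lib.Wal.K4

/-!
# Walter's theorem from the determination of the groups of Janko-Ree type
-/

set_option autoImplicit false

namespace Cfsg.Agent.SEA

universe u

theorem sew (jr : R1.JR.{u}) : R1.SEW.{u} :=
  SE.sew_of jr fun _ _ _ hs h2 _ hM hc h4 => main h2 hM hc h4 hs

theorem walter (jr : R1.JR.{u}) : R1.Walter.{u} := WF.walter W0.w0 (sew jr) W3.w3 (Wal.w4 jr)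

end Cfsg.Agent.SEA
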