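import Cfsg.Agent.Lib.SEA.ClaimB
import Cfsg.Agent.Lib.Lin1.Odd
import Cfsg.Agent.Lib.Suz2.Pres

/-!
# Odd order groups transitive on the involutions of an elementary abelian 2-group
-/

set_option autoImplicit false
set_option linter.unusedSectionVars false

namespace Cfsg.Agent.SEA

open Subgroup Cfsg.Agent.Coprime Cfsg.Agent.OO
open scoped Pointwise commutatorElement

universe u v

variable {G : Type u} [Group G] [Finite G] {E L T : Subgroup G} {f : G} {n : ℕ}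

/-- `T / C_L(E)` is the Fitting subgroup of `L / C_L(E)`, generated by `f` -/
structure Lin (E L T : Subgroup G) (f : G) (n : ℕ) : Prop where
  norm : L ≤ 𝐍(E)
  normal : T ⊴ L
  f_mem : f ∈ T
  cent_le : L ⊓ 𝐂(E) ≤ T
  gen : ∀ t ∈ T, ∃ i : ℕ, (f ^ i)⁻¹ * t ∈ 𝐂(E)
  semireg : ∀ t ∈ T, ∀ a ∈ E, a ≠ 1 → t * a = a * t → t ∈ 𝐂(E)
  cent : ∀ d ∈ L, f⁻¹ * (d * f * d⁻¹) ∈ 𝐂(E) → d ∈ T
  max : ∀ B, B ⊴ L → der B ≤ 𝐂(E) → B ≤ T
  index : T.relIndex L ∣ n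

theorem exists_lin (hE : IsElementaryAbelian 2 E) (h1 : E ≠ ⊥) (hL : L ≤ 𝐍(E))
    (ho : ¬ 2 ∣ (𝐂(E)).relIndex L) (hn : ♯E = 2 ^ n)
    (tr : ∀ s ∈ E, s ≠ 1 → ∀ t ∈ E, t ≠ 1 → ∃ g ∈ L, g * s * g⁻¹ = t) : ∃ T f, Lin E L T f n := by
  obtain ⟨V, _, _, _, om, hp⟩ := Suz2.exists_pres E ⊥ fun u hu => hE.2 u hu
  choose y hy using fun x : L => hp.exists_act (MulAut.conj (x : G))
    (fun _ => conj_mem_of_norm (hL x.2)) fun u hu => by rw [mem_bot.1 hu, map_one]; exact one_mem _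
  have hy1 : ∀ x : L, ∀ u ∈ E, y x (om u) = om (x * u * (x : G)⁻¹) := fun x u hu => by
    simpa using hy x 1 u hu
  let ρ0 : L →* Module.End (ZMod 2) V :=
    { toFun x := y x
      map_one' := hp.ext fun u hu => by rw [hy1 1 u hu]; simp
      map_mul' x x' := hp.ext fun u hu => by
        rw [Module.End.mul_apply, hy1 _ u hu, hy1 _ u hu, hy1 _ _ (conj_mem_of_norm (hL x'.2) hu)]
        simp [mul_assoc] }
  have inj : ∀ u ∈ E, ∀ v ∈ E, om u = om v → u = v := fun u hu v hv e =>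
    inv_mul_eq_one.1 ((hp.eq_iff hu hv).1 e)
  have hk : ∀ x : L, x ∈ ρ0.ker ↔ (x : G) ∈ 𝐂(E) := fun x =>
    ⟨fun e => mem_cent_iff_conj.2 fun u hu => inj _ (conj_mem_of_norm (hL x.2) hu) _ hu
      ((hy1 x u hu).symm.trans (DFunLike.congr_fun (MonoidHom.mem_ker.1 e) _)),
    fun e => hp.ext fun u hu => (hy1 x u hu).trans (by rw [mem_cent_iff_conj.1 e u hu]; rfl)⟩
  have hV : Nat.card V = 2 ^ n := hn ▸ (Nat.card_eq_of_bijective (fun z : E => om z)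
    ⟨fun a b e => Subtype.ext (inj _ a.2 _ b.2 e), fun l => (hp.surj l).elim fun u hu =>
      ⟨⟨u, hu.1⟩, hu.2⟩⟩).symm
  have hf : Module.finrank (ZMod 2) V = n := Nat.pow_right_injective le_rfl (by
    simpa [hV] using (Module.natCard_eq_pow_finrank (K := ZMod 2) (V := V)).symm)
  have : Nontrivial V := Finite.one_lt_card_iff_nontrivial.1 (hV ▸ hn ▸ one_lt_card h1)
  let ρ := QuotientGroup.lift ρ0.ker ρ0 le_rfl
  have hi : Function.Injective ρ := (QuotientGroup.injective_lift_iff _ _ _).2 rfl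
  have hodd : Odd (Nat.card (L ⧸ ρ0.ker)) := by
    rw [show ρ0.ker = (𝐂(E)).subgroupOf L from Subgroup.ext hk]
    exact Nat.not_even_iff_odd.1 fun e => ho e.two_dvd
  have := Feit_Thompson hodd
  have hT : Lin1.PT ρ := fun v w hv hw => by
    obtain ⟨s, hs, rfl⟩ := hp.surj v
    obtain ⟨t, ht, rfl⟩ := hp.surj w
    obtain ⟨g, hg, rfl⟩ := tr s hs (mt (hp.zero_iff s hs).2 hv) t ht (mt (hp.zero_iff t ht).2 hw)
    exact ⟨(⟨g, hg⟩ : L), 1, (hy1 ⟨g, hg⟩ s hs).trans (one_smul _ _).symm⟩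
  have hc := hT.isCyclic_fitting hi hodd (by
    obtain ⟨m, hm⟩ := hodd
    rw [hm]; push_cast; rw [show (2 : ZMod 2) = 0 from rfl]; simp)
  have hc' : IsMulCommutative (fittingSubgroup (L ⧸ ρ0.ker)) := inferInstance
  have hcc := le_antisymm (Core.centralizer_fitting_le (G := L ⧸ ρ0.ker)) (le_centralizer _)
  have h2 := hT.index_dvd hi hc'
  have h3 := fun b hb v => hT.semireg hi hc' (b := b) hb (v := v)
  have h4 := fun N hN => Core.le_fitting (G := L ⧸ ρ0.ker) (N := N) (hN := hN)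
  obtain ⟨b, hb⟩ := exists_zpowers_eq hc
  have hN : (fittingSubgroup (L ⧸ ρ0.ker)).Normal := inferInstance
  rw [hcc, hf] at h2
  generalize fittingSubgroup (L ⧸ ρ0.ker) = F at hc hc' hcc h2 h3 h4 hb hN
  obtain ⟨f, rfl⟩ := QuotientGroup.mk_surjective b
  have hm : ∀ x : L, (x : G) ∈ (F.comap (QuotientGroup.mk' _)).map L.subtype ↔
      (x : L ⧸ ρ0.ker) ∈ F := fun x => mem_map_iff_mem L.subtype_injective
  have hle := map_subtype_le (F.comap (QuotientGroup.mk' ρ0.ker))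
  refine ⟨(F.comap (QuotientGroup.mk' _)).map L.subtype, f, hL, normalIn_map_subtype _,
    (hm f).2 (hb ▸ mem_zpowers _), fun x hx => (hm ⟨x, hx.1⟩).2 ?_, fun t ht => ?_,
    fun t ht a ha a1 e => ?_, fun d hd e => (hm ⟨d, hd⟩).2 ?_, fun B hB e x hx => ?_, ?_⟩
  · rw [(QuotientGroup.eq_one_iff _).2 ((hk ⟨x, hx.1⟩).2 hx.2)]; exact one_mem _
  · obtain ⟨i, hi⟩ := mem_powers_iff_mem_zpowers.2 (hb ▸ (hm ⟨t, hle ht⟩).1 ht)
    exact ⟨i, (hk ((f ^ i)⁻¹ * ⟨t, hle ht⟩)).1 (QuotientGroup.eq.1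
      ((QuotientGroup.mk_pow _ f i).trans hi))⟩
  · refine (hk ⟨t, hle ht⟩).1 ((QuotientGroup.eq_one_iff _).1 (h3 _ ((hm ⟨t, hle ht⟩).1 ht) (om a)
      (mt (hp.zero_iff a ha).1 a1) ((hy1 ⟨t, hle ht⟩ a ha).trans ?_)))
    rw [e, mul_inv_cancel_right]
  · rw [← hcc, ← hb, cent_zpowers, mem_cent1_iff_conj]
    exact (QuotientGroup.eq.2 ((hk (f⁻¹ * (⟨d, hd⟩ * f * (⟨d, hd⟩ : L)⁻¹))).2 e)).symm
  · have := hB.subgroupOf
    refine (hm ⟨x, hB.le hx⟩).2 (h4 ((B.subgroupOf L).map (QuotientGroup.mk' _))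
      (this.map _ (QuotientGroup.mk'_surjective _)) (nil_of_ab (ab_iff.2 ?_))
      (mem_map_of_mem _ (x := (⟨x, hB.le hx⟩ : L)) hx))
    rintro _ ⟨a, ha, rfl⟩ _ ⟨b, hb, rfl⟩
    rw [← map_mul, ← map_mul]
    refine QuotientGroup.eq.2 ((hk _).2 (e ?_))
    have := commutator_mem_commutator (B.inv_mem hb) (B.inv_mem ha)
    simpa [commutatorElement_def, mul_assoc] using this
  · rw [relIndex, subgroupOf, comap_map_eq_self_of_injective L.subtype_injective,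
      index_comap_of_surjective _ (QuotientGroup.mk'_surjective _)]
    exact h2

namespace Lin

variable (h : Lin E L T f n) {d e g t : G}
include h

theorem le : T ≤ L := h.normal.le

theorem mem_of_comm (h1 : g ∈ 𝐍(L ⊓ 𝐂(E))) (h2 : g ∈ 𝐍(T)) (h3 : e ∈ 𝐍(L ⊓ 𝐂(E))) (h4 : e ∈ 𝐍(T))
    (hd : (e * g)⁻¹ * (g * e) ∈ L) : (e * g)⁻¹ * (g * e) ∈ T := by
  have hN := (normalIn_inf_cent h.norm).norm
  have hf := hN (h.le h.f_mem)
  have key : ∀ g ∈ 𝐍(L ⊓ 𝐂(E)), g ∈ 𝐍(T) → ∃ i : ℕ, coset (L ⊓ 𝐂(E)) g * coset (L ⊓ 𝐂(E)) f *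
      (coset (L ⊓ 𝐂(E)) g)⁻¹ = coset (L ⊓ 𝐂(E)) f ^ i := fun g h1 h2 => by
    have h3 := conj_mem_of_norm h2 h.f_mem
    obtain ⟨i, hi⟩ := h.gen _ h3
    refine ⟨i, ?_⟩
    rw [← coset_pow hf, ← coset_conj h1 hf, eq_comm, coset_eq_iff (pow_mem hf i) (hN (h.le h3))]
    exact mem_inf.2 ⟨mul_mem (inv_mem (pow_mem (h.le h.f_mem) i)) (h.le h3), hi⟩
  obtain ⟨i, hi⟩ := key g h1 h2
  obtain ⟨j, hj⟩ := key e h3 h4
  have h5 := hN hd
  refine h.cent _ hd ((coset_eq_iff hf (mul_mem (mul_mem h5 hf) (inv_mem h5))).1 ?_).2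
  rw [coset_conj h5 hf, coset_mul (inv_mem (mul_mem h3 h1)) (mul_mem h1 h3), coset_inv,
    coset_mul h3 h1, coset_mul h1 h3]
  generalize coset (L ⊓ 𝐂(E)) g = x, coset (L ⊓ 𝐂(E)) e = y, coset (L ⊓ 𝐂(E)) f = z at hi hj
  calc z = (y * x)⁻¹ * (y * (x * z * x⁻¹) * y⁻¹) * (y * x) := by group
    _ = (y * x)⁻¹ * (x * (y * z * y⁻¹) * x⁻¹) * (y * x) := by
      rw [hi, hj, ← conj_pow, ← conj_pow, hi, hj, ← pow_mul, ← pow_mul, mul_comm i]
    _ = _ := by group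

theorem der_le : der L ≤ T := commutator_le.2 fun g hg e he => by
  have hN := (normalIn_inf_cent h.norm).norm
  have := h.mem_of_comm (hN (inv_mem hg)) (h.normal.norm (inv_mem hg)) (hN (inv_mem he))
    (h.normal.norm (inv_mem he)) (mul_mem (inv_mem (mul_mem (inv_mem he) (inv_mem hg)))
      (mul_mem (inv_mem hg) (inv_mem he)))
  simpa [commutatorElement_def, mul_assoc] using this

theorem der_le_cent : der T ≤ 𝐂(E) := commutator_le.2 fun g hg e he => by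
  have hN := (normalIn_inf_cent h.norm).norm
  have hf := hN (h.le h.f_mem)
  have key : ∀ g ∈ T, ∃ i : ℕ, coset (L ⊓ 𝐂(E)) f ^ i = coset (L ⊓ 𝐂(E)) g := fun g h1 => by
    obtain ⟨i, hi⟩ := h.gen _ h1
    exact ⟨i, (coset_pow hf i).symm.trans ((coset_eq_iff (pow_mem hf i) (hN (h.le h1))).2
      (mem_inf.2 ⟨mul_mem (inv_mem (pow_mem (h.le h.f_mem) i)) (h.le h1), hi⟩))⟩
  obtain ⟨i, hi⟩ := key g hg
  obtain ⟨j, hj⟩ := key e he
  exact ((coset_commute_iff (hN (h.le hg)) (hN (h.le he))).1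
    (by rw [← hi, ← hj, pow_mul_comm])).2

/-- an automorphism normalizing `L` and `C_L(E)` normalizes `T` -/
theorem mem_norm (h1 : g ∈ 𝐍(L)) (h2 : g ∈ 𝐍(L ⊓ 𝐂(E))) : g ∈ 𝐍(T) :=
  mem_norm_of_conj_le (h.max _ (conj_eq_of_mem_norm h1 ▸ h.normal.conj g) (by
    rw [der, ← conj_commutator]
    exact (conj_le_of_mem_norm h2 (le_inf ((OO.der_le T).trans h.le) h.der_le_cent)).trans
      inf_le_right))

theorem relIndex_le {s : G} (hs : s ∈ E) (s1 : s ≠ 1) : (𝐂(E)).relIndex T ≤ ♯E - 1 := by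
  rw [← inf_relIndex_left, show T ⊓ 𝐂(E) = T ⊓ 𝐂[s] from le_antisymm
    (inf_le_inf_left T (cent_le_cent1 hs)) fun t ht =>
      ⟨ht.1, h.semireg t ht.1 s hs s1 (mem_cent1.1 ht.2)⟩, inf_relIndex_left,
    relIndex_centralizer_eq_ncard, ← ncard_sharp]
  refine Set.ncard_le_ncard ?_ (Set.toFinite _)
  rintro _ ⟨t, ht, rfl⟩
  exact conj_mem_sharp (h.norm (h.le ht)) ⟨hs, s1⟩

end Lin

end Cfsg.Agent.SEA
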