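import Cfsg.Agent.Lib.SEA.Lat
import Cfsg.Agent.Lib.W3.Base

/-!
# The Sylow 2-subgroups have exponent 2 when `C(A)` is regular
-/

set_option autoImplicit false
set_option linter.unusedSectionVars false

namespace Cfsg.Agent.SEA

open Subgroup MulAction Cfsg.Agent.Coprime Cfsg.Agent.OO Cfsg.Agent.ODD
open scoped Pointwise ComplexConjugate

universe u v

variable {G : Type u} {Ω : Type v} [Group G] [MulAction G Ω] [Finite G]
  {a b c : Ω} {d g k l s t u w x y : G} {H K L N S : Subgroup G} {φ ψ μ ν ξ : G → ℂ}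

theorem sum_sharp (H : Subgroup G) (F : G → ℂ) :
    ∑ x ∈ elts (sharp H), F x = ∑ x ∈ elts (H : Set G), F x - F 1 := by
  classical
  rw [← Finset.add_sum_erase _ F (mem_elts.2 (one_mem H)), add_sub_cancel_left]
  exact Finset.sum_congr (Finset.ext fun x => by simp [mem_elts, mem_sharp, and_comm])
    fun _ _ => rfl

theorem exists_mu (h2 : R1.Ab2 G) (s1 : s ≠ 1) (s2 : s * s = 1) :
    ∃ μ, IsLinChar 𝐂[s] μ ∧ μ s = -1 ∧ ∀ x ∈ 𝐂[s], ¬ 2 ∣ orderOf x → μ x = 1 := by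
  have hs : s ∈ 𝐂[s] := mem_cent1.2 rfl
  obtain ⟨S, hS, h1⟩ := exists_syl_ge (p := 2) (zpowers_le.2 hs) (isPGroup_zpowers_iff.2 (by
    rw [PiElt, orderOf_eq_prime (p := 2) (by rwa [pow_two]) s1]
    exact (isPiNum_prime Nat.prime_two).2 rfl))
  obtain ⟨l, hl, -, h3⟩ := exists_lin_char_cfker (der_normal _) le_rfl
    (W3.not_mem_der hS (h2 S hS.isPGroup) (zpowers_le.1 h1) s1 inf_le_left)
  have h4 : Odd (S.relIndex 𝐂[s]) := Nat.not_even_iff_odd.1 fun e => hS.not_dvd e.two_dvd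
  refine ⟨_, hl.pow h4.pos.ne', ?_, fun x hx e => ?_⟩
  · rw [Pi.pow_apply, (mul_self_eq_one_iff.1 (by rw [← lin_charM hl hs hs, s2, hl.one])).resolve_left
      (mt (mem_cfker_lin hl).2 h3), h4.neg_one_pow]
  · obtain ⟨n, hn⟩ := hS.isPGroup.exists_card_eq
    rw [Pi.pow_apply, ← lin_charX hl hx, orderOf_dvd_iff_pow_eq_one.1, hl.one]
    exact (((Nat.Prime.coprime_iff_not_dvd Nat.prime_two).2 e).pow_left n).symm.dvd_of_dvd_mul_left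
      (by rw [← hn, card_mul_relIndex hS.le]; exact orderOf_dvd_card hx)

theorem Hyp.cfInd_apply (h : Hyp G Ω) (hs : s ∈ A G a) (s1 : s ≠ 1) (L : Subgroup G) (φ : G → ℂ) :
    cfInd (stabilizer G a) L φ s =
      (♯L : ℂ)⁻¹ * ♯𝐂[s] * (∑ t ∈ elts (A G a : Set G), φ t - φ 1) := by
  rw [cfIndE' _ _ (h.A_le a hs), sum_conj (h.mem_sharp_iff hs s1),
    inf_eq_right.2 (h.cent_le hs s1), sum_sharp, mul_assoc]

theorem Hyp.sdprod (h : Hyp G Ω) (hab : a ≠ b) (hW : D G a b ⊓ 𝐂(A G a) = ⊥) :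
    IsSdprod 𝐂(A G a) (D G a b) (stabilizer G a) :=
  .of_normal ⟨h.cent_A_le a, le_norm_cent (stab_le_norm a)⟩ inf_le_left (fun g hg => by
    obtain ⟨y, hy, e⟩ := h.cent_trans hab (c := g • b) fun e =>
      hab (smul_left_cancel g ((mem_stabilizer_iff.1 hg).trans e))
    rw [← mul_inv_cancel_left y g]
    exact mul_mem_sup hy (mem_D.2 ⟨mul_mem (inv_mem (h.cent_A_le a hy)) hg,
      by rw [mul_smul, ← e, inv_smul_smul]⟩)) ((inf_comm _ _).trans hW)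

namespace Fr

variable (h : Fr G a b u K) (hW : D G a b ⊓ 𝐂(A G a) = ⊥) (hs : s ∈ A G a) (s1 : s ≠ 1)
include h hW hs s1

theorem inertia_eq (hN : N ≤ 𝐂(A G a)) (hn : stabilizer G a ≤ 𝐍(N)) (hψ : IsLinChar 𝐂[s] ψ)
    (hx : x ∈ N) (h1 : ψ x ≠ 1) : inertia (stabilizer G a) (cfRes N ψ) = 𝐂[s] := by
  have h2 : 𝐂[s] ≤ inertia (stabilizer G a) (cfRes N ψ) := fun c hc =>
    mem_inertia.2 ⟨h.cent_le hs s1 hc, cfConjg_cfRes_of_mem hψ.mem_CF hc (hn (h.cent_le hs s1 hc))⟩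
  refine le_antisymm (fun g hg => ?_) h2
  obtain ⟨k, hk, e⟩ := h.exists_K hs s1 (conj_mem_of_norm (stab_le_norm a (inertia_le _ _ hg)) hs)
    (BSW.conj_ne_one s1)
  have h3 : k⁻¹ * g ∈ 𝐂[s] := mem_cent1_iff_conj.2 (by
    rw [show k⁻¹ * g * s * (k⁻¹ * g)⁻¹ = k⁻¹ * (g * s * g⁻¹) * k by group, ← e]; group)
  by_cases k1 : k = 1
  · simpa [k1] using h3
  have h4 := eq_cf1_of_cfConjg_eq (hn (h.K_le hk).1) (eq_bot_iff.2 fun y hy => hW.le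
    ⟨h.cent_K hk k1 (h.cent_A_le a (hN hy.1)) (mem_cent1.1 hy.2), hN hy.1⟩)
    (hψ.cfRes (hN.trans (cent_le_cent1 hs))).isIrr
    (inertiaJ (by simpa using mul_mem hg (inv_mem (h2 h3))))
  exact absurd (by rw [← cfResE ψ hx, h4, cf1E hx]) h1

theorem der_le_cent : der 𝐂[s] ≤ 𝐂(A G a) :=
  ((h.sdprod h.ne hW).of_left_le (cent_le_cent1 hs) (h.cent_le hs s1)).der_le_of_ab
    (ab_iff_der.2 (eq_bot_iff.2 (hW.le.trans' (le_inf ((OO.der_le _).trans inf_le_left)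
      ((le_inf (der_mono inf_le_left) ((OO.der_le _).trans inf_le_right)).trans
        (h.der_le s hs s1))))))

section
variable (hψ : IsLinChar 𝐂[s] ψ) (hx : x ∈ 𝐂(A G a)) (h1 : ψ x ≠ 1)
include hψ hx h1

open Classical in
theorem ind_irr : IsIrr (stabilizer G a) (cfInd (stabilizer G a) 𝐂[s] ψ) ∧
    (∀ φ, IsIrr 𝐂(A G a) φ → ⟪cfInd (stabilizer G a) 𝐂(A G a) φ,
      cfInd (stabilizer G a) 𝐂[s] ψ⟫[stabilizer G a] =
        if φ ∈ cfclass (stabilizer G a) (cfRes 𝐂(A G a) ψ) then 1 else 0) ∧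
    ∀ ξ, IsLinChar 𝐂[s] ξ → cfRes 𝐂(A G a) ξ = cfRes 𝐂(A G a) ψ →
      cfInd (stabilizer G a) 𝐂[s] ξ = cfInd (stabilizer G a) 𝐂[s] ψ → ξ = ψ := by
  have hQ := (h.sdprod h.ne hW).normal
  have h2 := h.inertia_eq hW hs s1 le_rfl hQ.norm hψ hx h1
  have h3 := (hψ.cfRes (cent_le_cent1 hs)).isIrr
  have h4 : ⟪cfRes 𝐂(A G a) ψ, cfRes 𝐂(A G a) ψ⟫[𝐂(A G a)] ≠ 0 := by
    rw [cfdot_irr_self h3]; exact one_ne_zero
  have h5 := constt_Inertia_irr hQ h3 (h2.symm ▸ hψ.isIrr) h4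
  have h6 := constt_Inertia_cfdot hQ h3 (h2.symm ▸ hψ.isIrr) h4
  have h7 := fun ξ (e : IsLinChar 𝐂[s] ξ) e' => constt_Inertia_inj hQ h3 (h2.symm ▸ hψ.isIrr) h4
    (ξ := ξ) (h2.symm ▸ e.isIrr) e'
  rw [h2] at h5 h6 h7
  refine ⟨h5, fun φ hφ => ?_, fun ξ e e' => h7 ξ e (e'.symm ▸ h4)⟩
  rw [← Frobenius_reciprocity hQ.le hφ.mem_CF h5.mem_CF, cfdotC,
    Clifford_Res_sum_cfclass hQ h5 h3 (h6 ▸ h4), h6, cfdot_irr_self h3, one_smul,
    cfdot_sum_cfclass hQ.norm h3 hφ]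
  split_ifs <;> simp

open Classical in
theorem ind_mul (hν : IsLinChar 𝐂[s] ν) (h2 : 𝐂(A G a) ≤ cfker 𝐂[s] ν) :
    IsIrr (stabilizer G a) (cfInd (stabilizer G a) 𝐂[s] (ν * ψ)) ∧
    (∀ φ, IsIrr 𝐂(A G a) φ → ⟪cfInd (stabilizer G a) 𝐂(A G a) φ,
      cfInd (stabilizer G a) 𝐂[s] (ν * ψ)⟫[stabilizer G a] =
        if φ ∈ cfclass (stabilizer G a) (cfRes 𝐂(A G a) ψ) then 1 else 0) ∧
    (∀ ξ, IsLinChar 𝐂[s] ξ → 𝐂(A G a) ≤ cfker 𝐂[s] ξ →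
      cfInd (stabilizer G a) 𝐂[s] (ξ * ψ) = cfInd (stabilizer G a) 𝐂[s] (ν * ψ) → ξ = ν) ∧
    cfInd (stabilizer G a) 𝐂[s] (ν * ψ) s = ∑ t ∈ elts (A G a : Set G), ψ t - 1 := by
  obtain ⟨h3, h4, h5⟩ := h.ind_irr hW hs s1 (hν.mul hψ) hx (by
    rwa [Pi.mul_apply, (mem_cfker_lin hν).1 (h2 hx), one_mul])
  rw [cfRes_lin_mul hν h2] at h4 h5
  refine ⟨h3, h4, fun ξ e1 e2 e3 => hψ.mul_cancel e1.mem_CF hν.mem_CF (by
    rw [mul_comm, h5 _ (e1.mul hψ) (cfRes_lin_mul e1 e2 ψ) e3, mul_comm]), ?_⟩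
  rw [h.cfInd_apply hs s1, inv_mul_cancel₀ (cardC_ne_zero _), one_mul, (hν.mul hψ).one,
    Finset.sum_congr rfl fun t ht => by rw [Pi.mul_apply, (mem_cfker_lin hν).1
      (h2 (Ab.le_cent (h.A_ab a) (mem_elts.1 ht))), one_mul]]

end

theorem false_of_sq (hb : ∀ g ∈ 𝐂[s], ∀ t ∈ A G a, t ≠ 1 → t ≠ s → g ∈ 𝐂[t] → g ∈ 𝐂(A G a))
    (hx : x ∈ 𝐂(A G a)) (e : x * x = s) : False := by
  classical
  obtain ⟨μ, hμ, μs, μo⟩ := exists_mu h.ab2 s1 (h.sq hs)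
  have hAQ : A G a ≤ 𝐂(A G a) := Ab.le_cent (h.A_ab a)
  have hQH : 𝐂(A G a) ≤ 𝐂[s] := cent_le_cent1 hs
  have hHM := h.cent_le hs s1
  have hQ := (h.sdprod h.ne hW).normal
  have hl := hμ.mul hμ
  have lA : ∀ t ∈ A G a, (μ * μ) t = 1 := fun t ht => by
    rw [Pi.mul_apply, ← lin_charM hμ (hQH (hAQ ht)) (hQH (hAQ ht)), h.sq ht, hμ.one]
  have μ1 : μ s ≠ 1 := by rw [μs]; norm_num
  have l1 : (μ * μ) x ≠ 1 := by rwa [Pi.mul_apply, ← lin_charM hμ (hQH hx) (hQH hx), e]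
  have lo : ∀ y ∈ 𝐂[s], ¬ 2 ∣ orderOf y → (μ * μ) y = 1 := fun y hy e => by
    rw [Pi.mul_apply, μo y hy e, one_mul]
  have le : Ev (μ * μ - μ) := fun y e => by
    by_cases hy : y ∈ 𝐂[s]
    · rw [Pi.sub_apply, lo y hy e, μo y hy e, sub_self]
    · simp [cfun0 hμ.mem_CF hy]
  generalize μ * μ = l at hl lA l1 lo le
  have sμ : ∑ t ∈ elts (A G a : Set G), μ t = 0 := by
    rw [← (hμ.cfRes (hAQ.trans hQH)).isIrr.sum_eq_zero fun e => μ1 (by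
      rw [← cfResE μ hs, e, cf1E hs])]
    exact Finset.sum_congr rfl fun t ht => (cfResE μ (mem_elts.1 ht)).symm
  have sl : ∑ t ∈ elts (A G a : Set G), l t = ♯(A G a) := by
    rw [Finset.sum_congr rfl fun t ht => lA t (mem_elts.1 ht), sum_elts_const]; simp
  have hN := card_irr_cfker_of_der_le (hQ.mono hQH hHM) (h.der_le_cent hW hs s1)
  have hν : ∀ ν ∈ (Irr 𝐂[s]).filter fun ν => 𝐂(A G a) ≤ cfker 𝐂[s] ν,
      IsLinChar 𝐂[s] ν ∧ 𝐂(A G a) ≤ cfker 𝐂[s] ν := fun ν hν =>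
    ⟨lin_irr_der1 (mem_Irr.1 (Finset.mem_filter.1 hν).1)
      ((h.der_le_cent hW hs s1).trans (Finset.mem_filter.1 hν).2), (Finset.mem_filter.1 hν).2⟩
  generalize (Irr 𝐂[s]).filter (fun ν => 𝐂(A G a) ≤ cfker 𝐂[s] ν) = N at hN hν
  have i1 := fun ν e => h.ind_mul hW hs s1 hl hx l1 (hν ν e).1 (hν ν e).2
  have i2 := fun ν e => h.ind_mul hW hs s1 hμ (hAQ hs) μ1 (hν ν e).1 (hν ν e).2
  have i3 : ∀ ν ∈ N, ∀ ξ ∈ N, cfInd (stabilizer G a) 𝐂[s] (ν * l) ≠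
      cfInd (stabilizer G a) 𝐂[s] (ξ * μ) := fun ν e1 ξ e2 e => by
    have := (i1 ν e1).2.2.2
    rw [e, (i2 ξ e2).2.2.2, sl, sμ, sub_left_inj] at this
    exact cardC_ne_zero _ this.symm
  have t1 := h.inertia_eq hW hs s1 le_rfl hQ.norm hl hx l1
  have t2 := h.inertia_eq hW hs s1 le_rfl hQ.norm hμ (hAQ hs) μ1
  have t3 := h.inertia_eq hW hs s1 hAQ (stab_le_norm a) hμ hs μ1
  have l0 := hl.cfRes hQH
  have μ0 := hμ.cfRes hQH
  have m1 : ∀ k ∈ K, IsLinChar 𝐂(A G a) (cfConjg k (cfRes 𝐂(A G a) l)) := fun k hk =>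
    l0.cfConjg (hQ.norm (h.K_le hk).1)
  have m2 : ∀ g ∈ stabilizer G a, ∀ t ∈ A G a, cfConjg g (cfRes 𝐂(A G a) l) t = 1 :=
    fun g hg t ht => by
      have := conj_mem_of_norm (inv_mem (stab_le_norm a hg)) ht
      rw [inv_inv] at this
      rw [cfConjgE, cfResE _ (hAQ this), lA _ this]
  have m3 : ∀ k ∈ K, ∀ t ∈ A G a, (cfRes 𝐂(A G a) μ * cfConjg k (cfRes 𝐂(A G a) l)) t = μ t :=
    fun k hk t ht => by rw [Pi.mul_apply, m2 k (h.K_le hk).1 t ht, mul_one, cfResE _ (hAQ ht)]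
  have m4 : ∀ φ : G → ℂ, (∀ t ∈ A G a, φ t = μ t) → ∀ g ∈ stabilizer G a,
      (∀ t ∈ A G a, cfConjg g φ t = μ t) → g ∈ 𝐂[s] := fun φ e1 g hg e2 =>
    t3 ▸ mem_inertia.2 ⟨hg, by
      rw [← cfRes_ext e1, cfConjg_cfRes (stab_le_norm a hg), cfRes_ext e2, cfRes_ext e1]⟩
  have m5 : ∀ φ : G → ℂ, φ s = μ s → φ ∉ cfclass (stabilizer G a) (cfRes 𝐂(A G a) l) :=
    fun φ e1 e2 => by
      obtain ⟨g, hg, rfl⟩ := mem_cfclass.1 e2
      exact μ1 (e1.symm.trans (m2 g hg s hs))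
  have m6 : ∀ k ∈ K, cfRes 𝐂(A G a) μ * cfConjg k (cfRes 𝐂(A G a) l) ∉
      cfclass (stabilizer G a) (cfRes 𝐂(A G a) μ) := fun k hk e1 => by
    obtain ⟨g, hg, e1⟩ := mem_cfclass.1 e1
    rw [inertiaJ (t2.ge (m4 _ (fun t ht => cfResE μ (hAQ ht)) g hg (e1 ▸ m3 k hk)))] at e1
    have := congr_fun e1 (k * x * k⁻¹)
    rw [Pi.mul_apply, cfConjgEJ, cfResE l hx, mul_eq_left₀
      (lin_char_neq0 μ0 (hQ.conj_mem (h.K_le hk).1 hx))] at this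
    exact l1 this
  have m7 : ∀ k ∈ K, ∀ j ∈ K, ∀ g ∈ 𝐂[s], cfRes 𝐂(A G a) μ * cfConjg j (cfRes 𝐂(A G a) l) =
      cfConjg g (cfRes 𝐂(A G a) μ * cfConjg k (cfRes 𝐂(A G a) l)) → j⁻¹ * (g * k) ∈ 𝐂[s] :=
    fun k hk j hj g hg e1 => by
      rw [cfConjg_mul, inertiaJ (t2.ge hg)] at e1
      refine t1 ▸ mem_inertia.2 ⟨mul_mem (inv_mem (h.K_le hj).1) (mul_mem (hHM hg) (h.K_le hk).1), ?_⟩
      rw [cfConjgM, cfConjgM, ← μ0.mul_cancel (m1 j hj).mem_CF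
        ((m1 k hk).cfConjg (hQ.norm (hHM hg))).mem_CF e1, cfConjgK]
  have m8 : ∀ k ∈ sharp K, inertia (stabilizer G a)
      (cfRes 𝐂(A G a) μ * cfConjg k (cfRes 𝐂(A G a) l)) = 𝐂(A G a) := fun k hk => by
    refine le_antisymm (fun g hg => ?_) (sub_inertia hQ.le (μ0.mul (m1 k hk.1)).mem_CF)
    have h1 := m4 _ (m3 k hk.1) g (inertia_le _ _ hg) (by rw [inertiaJ hg]; exact m3 k hk.1)
    have h2 := mem_cent1.1 (m7 k hk.1 k hk.1 g h1 (inertiaJ hg).symm)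
    refine hb g h1 _ (conj_mem_of_norm (stab_le_norm a (h.K_le hk.1).1) hs) (BSW.conj_ne_one s1)
      (fun e => hk.2 (h.eq_one hk.1 hs s1 (mul_inv_eq_iff_eq_mul.1 e).symm)) (mem_cent1.2 ?_)
    rw [show g * (k * s * k⁻¹) = k * (k⁻¹ * (g * k) * s) * k⁻¹ by group, h2]
    group
  have h4 := h.four_le a
  have v1 : ∀ ν : G → ℂ, Ev (cfInd (stabilizer G a) 𝐂[s] (ν * l) -
      cfInd (stabilizer G a) 𝐂[s] (ν * μ)) := fun ν => map_sub (cfInd _ 𝐂[s]) (ν * l) _ ▸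
    Ev.cfInd (fun y e => by rw [← mul_sub, Pi.mul_apply, le y e, mul_zero]) _ _
  have v2 : ∀ k ∈ K, Ev (cfInd (stabilizer G a) 𝐂(A G a) (cfRes 𝐂(A G a) μ *
      cfConjg k (cfRes 𝐂(A G a) l)) - cfInd (stabilizer G a) 𝐂(A G a) (cfRes 𝐂(A G a) μ)) :=
    fun k hk => map_sub (cfInd _ 𝐂(A G a)) (cfRes _ μ * _) _ ▸ Ev.cfInd (fun y e => by
      by_cases hy : y ∈ 𝐂(A G a)
      · have := hQ.conj_mem (inv_mem (h.K_le hk).1) hy
        rw [Pi.sub_apply, Pi.mul_apply, cfConjgE, ← inv_inv k, inv_inv k⁻¹, cfResE l this,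
          lo _ (hQH this) (by rwa [orderOf_conj]), mul_one, sub_self]
      · simp [cfun0 μ0.mem_CF hy]) _ _
  have c : ∀ (L L' : Subgroup G) φ ψ, cfInd (stabilizer G a) L φ - cfInd (stabilizer G a) L' ψ ∈
      CF (stabilizer G a) := fun _ _ _ _ => sub_mem (cfInd_mem_CF _ _ _) (cfInd_mem_CF _ _ _)
  have key := h.lattice hs s1 (N := N) (J := elts (sharp K))
    (β := fun ν => cfInd ⊤ (stabilizer G a) (cfInd (stabilizer G a) 𝐂[s] (ν * l) -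
      cfInd (stabilizer G a) 𝐂[s] (ν * μ)))
    (γ := fun k => cfInd ⊤ (stabilizer G a) (cfInd (stabilizer G a) 𝐂(A G a)
      (cfRes 𝐂(A G a) μ * cfConjg k (cfRes 𝐂(A G a) l)) -
        cfInd (stabilizer G a) 𝐂(A G a) (cfRes 𝐂(A G a) μ)))
    (r := fun k j => if cfRes 𝐂(A G a) μ * cfConjg j (cfRes 𝐂(A G a) l) ∈ cfclass (stabilizer G a)
      (cfRes 𝐂(A G a) μ * cfConjg k (cfRes 𝐂(A G a) l)) then 1 else 0)
    (Finset.card_pos.1 (hN ▸ relIndex_pos _ _))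
    (Finset.card_pos.1 (by rw [card_elts_set, ncard_sharp, h.card_K]; omega))
    (fun ν e => ⟨cfInd_vchar le_top (sub_mem (irr_vchar (i1 ν e).1) (irr_vchar (i2 ν e).1)),
      (v1 ν).cfInd _ _, by
        rw [h.cfInd_stab (c ..) (v1 ν) (h.fix hs), Pi.sub_apply, (i1 ν e).2.2.2, (i2 ν e).2.2.2,
          sl, sμ]; ring, by
        rw [h.cfdot_cfInd (c ..) (c ..) (v1 ν), cfdotBl, cfdotBr, cfdotBr, cfdot_irr_self (i1 ν e).1,
          cfdot_irr_self (i2 ν e).1, cfdot_irr_ne (i1 ν e).1 (i2 ν e).1 (i3 ν e ν e),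
          cfdot_irr_ne (i2 ν e).1 (i1 ν e).1 (i3 ν e ν e).symm]; norm_num⟩)
    (fun ν e ξ e' ne => by
      rw [h.cfdot_cfInd (c ..) (c ..) (v1 ξ), cfdotBl, cfdotBr, cfdotBr,
        cfdot_irr_ne (i1 ν e).1 (i1 ξ e').1 (mt ((i1 ξ e').2.2.1 ν (hν ν e).1 (hν ν e).2) ne),
        cfdot_irr_ne (i2 ν e).1 (i2 ξ e').1 (mt ((i2 ξ e').2.2.1 ν (hν ν e).1 (hν ν e).2) ne),
        cfdot_irr_ne (i1 ν e).1 (i2 ξ e').1 (i3 ν e ξ e'),
        cfdot_irr_ne (i2 ν e).1 (i1 ξ e').1 (i3 ξ e' ν e).symm]; norm_num)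
    (fun k hk => by
      have hk := (mem_elts.1 hk).1
      have h1 := (μ0.mul (m1 k hk)).isIrr
      refine ⟨cfInd_vchar le_top (sub_mem (cfInd_vchar hQ.le (irr_vchar h1))
        (cfInd_vchar hQ.le (irr_vchar μ0.isIrr))), (v2 k hk).cfInd _ _, ?_, fun ν e => ?_⟩
      · rw [h.cfInd_stab (c ..) (v2 k hk) (h.fix hs), Pi.sub_apply, h.cfInd_apply hs s1,
          h.cfInd_apply hs s1, (μ0.mul (m1 k hk)).one, μ0.one, Finset.sum_congr rfl fun t ht =>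
            (m3 k hk t (mem_elts.1 ht)).trans (cfResE μ (hAQ (mem_elts.1 ht))).symm, sub_self]
      · rw [h.cfdot_cfInd (c ..) (c ..) (v1 ν), cfdotBl, cfdotBr, cfdotBr, (i1 ν e).2.1 _ h1,
          (i2 ν e).2.1 _ h1, (i1 ν e).2.1 _ μ0.isIrr, (i2 ν e).2.1 _ μ0.isIrr,
          if_neg (m5 _ (m3 k hk s hs)), if_neg (m6 k hk), if_neg (m5 _ (cfResE μ (hAQ hs))),
          if_pos (cfclass_refl _ _)]
        norm_num)
    (fun k hk j hj => by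
      have hk := mem_elts.1 hk
      have hj := (mem_elts.1 hj).1
      have h1 := (μ0.mul (m1 k hk.1)).isIrr
      have h2 := (μ0.mul (m1 j hj)).isIrr
      rw [h.cfdot_cfInd (c ..) (c ..) (v2 j hj), cfdotBl, cfdotBr, cfdotBr,
        cfdot_Ind_Ind_irr hQ h1 h2, not_cfclass_Ind_ortho hQ h1 μ0.isIrr
          (mt cfclass_symm (m6 k hk.1)), not_cfclass_Ind_ortho hQ μ0.isIrr h2 (m6 j hj),
        cfnorm_Ind_irr hQ μ0.isIrr, t2, m8 k hk, hN, relIndex_self]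
      split_ifs <;> simp [add_comm])
    (fun k hk => by
      have hk := (mem_elts.1 hk).1
      refine ⟨if_pos (cfclass_refl _ _), fun j _ => by positivity, ?_⟩
      rw [Finset.sum_boole, Nat.cast_le, hN]
      refine le_trans (Finset.card_le_card_of_injOn (t := cfclass 𝐂[s] (cfRes 𝐂(A G a) μ *
        cfConjg k (cfRes 𝐂(A G a) l))) (fun j => cfRes 𝐂(A G a) μ * cfConjg j (cfRes 𝐂(A G a) l))
        (fun j hj => ?_) fun j hj i hi e => ?_) ((card_cfclass _ _).trans_le (relIndex_le_of_le_left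
          (sub_inertia hQH (μ0.mul (m1 k hk)).mem_CF) (relIndex_pos _ _).ne'))
      · obtain ⟨h1, h2⟩ := Finset.mem_filter.1 hj
        obtain ⟨g, hg, e⟩ := mem_cfclass.1 h2
        exact mem_cfclass.2 ⟨g, m4 _ (m3 k hk) g hg (e ▸ m3 j (mem_elts.1 h1).1), e⟩
      · have h1 := (mem_elts.1 (Finset.mem_filter.1 hj).1).1
        have h2 := (mem_elts.1 (Finset.mem_filter.1 hi).1).1
        have h3 := m7 i h2 j h1 1 (one_mem _) (e.trans (cfConjg_one _).symm)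
        rw [one_mul] at h3
        exact inv_mul_eq_one.1 (h.eq_one (mul_mem (inv_mem h1) h2) hs s1 (mem_cent1.1 h3).symm))
  have e1 : ♯𝐂(A G a) ≤ Nat.card Ω := by
    haveI := h.finite
    rw [← card_inf_mul_relIndex (stabilizer G b), show stabilizer G b ⊓ 𝐂(A G a) = ⊥ from
      eq_bot_iff.2 fun y hy => hW.le ⟨⟨hQ.le hy.2, hy.1⟩, hy.2⟩, card_bot, one_mul, ← h.index_stab b,
      ← relIndex_top_right]
    exact relIndex_le_of_le_right le_top (relIndex_pos _ _).ne'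
  obtain ⟨m, hm⟩ : ∃ m, ♯(A G a) = m + 2 := ⟨♯(A G a) - 2, by omega⟩
  rw [card_elts_set, ncard_sharp, h.card_K, h.ncard_invs a, ← card_mul_index (stabilizer G a),
    h.index_stab, ← card_mul_relIndex hHM, ← card_mul_relIndex hQH, ← hN,
    h.relIndex_cent h.ne hs s1 inf_le_left le_rfl, hm] at key
  simp only [Nat.add_succ_sub_one, Nat.add_zero, Nat.add_sub_cancel] at key
  push_cast at key
  have p1 : (0 : ℝ) < m := by exact_mod_cast (by omega : 0 < m)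
  have p2 : (0 : ℝ) < N.card := by exact_mod_cast hN ▸ relIndex_pos _ _
  have p3 : (0 : ℝ) < ♯𝐂(A G a) := by exact_mod_cast card_pos' _
  have p4 : (♯𝐂(A G a) : ℝ) ≤ Nat.card Ω := by exact_mod_cast e1
  have p5 := p3.trans_le p4
  have p6 := mul_le_mul_of_nonneg_right p4
    (show (0 : ℝ) ≤ N.card * (m + 1) * Nat.card Ω * m ^ 2 by positivity)
  have : 0 < (m : ℝ) * N.card * Nat.card Ω ^ 2 * (m + 1) * (3 * m + 4) := by positivity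
  linarith

end Fr

end Cfsg.Agent.SEA
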