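import Cfsg.Agent.Lib.SEA.Ind
import Cfsg.Agent.Lib.BSW.SL2Sub

/-!
# Bender's theorem for abelian Sylow 2-subgroups, when the involutions of the strongly embedded
subgroup commute
-/

set_option autoImplicit false
set_option linter.unusedSectionVars false

namespace Cfsg.Agent.SEA

open Subgroup MulAction Cfsg.Agent.Coprime Cfsg.Agent.OO
open scoped Pointwise

universe u

variable {G Ω : Type u} [Group G] [MulAction G Ω] [Finite G]
  {a b c : Ω} {g k s t u : G} {E K M : Subgroup G}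

theorem Hyp.card_eq (h : Hyp G Ω) (a : Ω) : Nat.card Ω = ♯(A G a) + 1 := by
  haveI := h.nontriv
  haveI := h.finite
  obtain ⟨b, hab⟩ := exists_ne a
  rw [← Set.ncard_univ, ← Set.ncard_diff_singleton_add_one (Set.mem_univ a), ← card_elts, card_elts_set]
  refine congrArg (· + 1) (Eq.symm (Set.ncard_congr (fun t _ => t • b)
    (fun t ht => ⟨trivial, (h.smul_ne' ht hab.symm).symm⟩) (fun s t hs ht e => ?_)
    fun c hc => let ⟨t, ht, e⟩ := h.tr a b c hab.symm (Ne.symm hc.2); ⟨t, ht, e⟩))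
  by_contra e'
  exact h.smul_ne (mul_mem (inv_mem ht) hs) (fun e => e' (inv_mul_eq_one.1 e).symm) hab.symm
    (by rw [mul_smul, e, inv_smul_smul])

theorem Fr.D_le (h : Fr G a b u K) (hG : IsSimpleGroup G) : D G a b ≤ K := by
  have hn : K ≤ 𝐍(A G a) := (h.K_le.trans inf_le_left).trans (stab_le_norm a)
  have hB : A G a ⊔ K ≤ stabilizer G a := sup_le (h.A_le a) (h.K_le.trans inf_le_left)
  let T : Set G := {g | g ∈ A G a ⊔ K ∨ ∃ x ∈ A G a ⊔ K, ∃ t ∈ A G a, g = x * u * t}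
  have h1 : A G a ≤ stabilizer G T := fun t ht =>
    (mem_stabilizer_set_iff_smul_set_subset (Set.toFinite _)).2 (by
      rintro _ ⟨g, hg | ⟨x, hx, r, hr, rfl⟩, rfl⟩
      · exact .inl (mul_mem (mem_sup_left ht) hg)
      · exact .inr ⟨t * x, mul_mem (mem_sup_left ht) hx, r, hr, by simp [mul_assoc]⟩)
  have hs : A G a ⊔ K ≤ K ⊔ A G a := (sup_comm _ _).le
  have hu : ∀ k ∈ K, u * k = k⁻¹ * u := fun k hk => by rw [← h.inv hk, inv_mul_cancel_right]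
  have h2 : u ∈ stabilizer G T := (mem_stabilizer_set_iff_smul_set_subset (Set.toFinite _)).2 (by
    rintro _ ⟨g, hg | ⟨x, hx, r, hr, rfl⟩, rfl⟩
    · obtain ⟨k, hk, t, ht, rfl⟩ := (mem_sup_norm_right hn).1 (hs hg)
      exact .inr ⟨k⁻¹, mem_sup_right (inv_mem hk), t, ht, by simp [← mul_assoc, hu k hk]⟩
    obtain ⟨k, hk, t, ht, rfl⟩ := (mem_sup_norm_right hn).1 (hs hx)
    have e : u • (k * t * u * r) = k⁻¹ * (u * t * u⁻¹) * r := by
      simp only [smul_eq_mul, ← mul_assoc, hu k hk, BSW.inv_eq_of_mul_self h.u2]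
    by_cases t1 : t = 1
    · exact .inl (e.symm ▸ mul_mem (by simpa [t1] using mem_sup_right hk) (mem_sup_left hr) :
        u • (k * t * u * r) ∈ _)
    have h2 := h.ua ▸ conj_mem_A ht u
    obtain ⟨z, hz, e'⟩ := h.tr a _ b (h.smul_ne h2 (BSW.conj_ne_one t1) h.ne.symm).symm h.ne
    have h3 := h.mul_mem_K (BSW.conj_mul_self (g := z) (h.sq h2)) (by
      nth_rw 1 [← h.fix hz]; rw [conj_smul_smul, e'])
    refine .inr ⟨k⁻¹ * z⁻¹ * (u * (z * (u * t * u⁻¹) * z⁻¹))⁻¹, mul_mem (mul_mem (mem_sup_right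
      (inv_mem hk)) (mem_sup_left (inv_mem hz))) (mem_sup_right (inv_mem h3)), z * r,
      mul_mem hz hr, ?_⟩
    show u • _ = _
    rw [e, mul_assoc _ _ u, ← hu _ h3, ← mul_assoc u u, h.u2]
    group)
  have h3 : ∀ c : Ω, A G c ≤ stabilizer G T := fun c => by
    by_cases e : a = c
    · exact e ▸ h1
    obtain ⟨t, ht, rfl⟩ := h.tr a b c h.ne e
    rw [← h.ua, ← mul_smul, ← conj_A]
    exact conj_le_of_mem (mul_mem (h1 ht) h2) h1
  obtain ⟨s, hs, s1⟩ := h.exists_A a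
  have h4 := ((stabilizer G T).normalCore_normal.eq_bot_or_eq_top.resolve_left fun e =>
    s1 (e.le fun g => h3 _ (conj_mem_A hs g))).ge.trans (normalCore_le _)
  intro d hd
  rcases (mem_stabilizer_iff.1 (h4 (mem_top d))).le ⟨1, .inl (one_mem _), mul_one d⟩ with
    e | ⟨x, hx, t, ht, rfl⟩
  · obtain ⟨t, ht, k, hk, rfl⟩ := (mem_sup_norm_left hn).1 e
    rwa [not_not.1 fun t1 => h.smul_ne ht t1 h.ne
      ((mul_mem_cancel_right (h.K_le hk)).1 hd).2, one_mul]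
  · have := mem_stabilizer_iff.1 hd.1
    rw [mul_smul, mul_smul, h.fix ht, h.ua] at this
    exact (h.ne (smul_left_cancel x ((hB hx).trans this.symm))).elim

theorem Hyp.psl (h : Hyp G Ω) (hG : IsSimpleGroup G) : ∃ n : ℕ, 2 ≤ n ∧
    Nonempty (G ≃* Matrix.ProjectiveSpecialLinearGroup (Fin 2) (GaloisField 2 n)) := by
  obtain ⟨a, b, hab⟩ := h.nontriv
  obtain ⟨u, hu, e⟩ := h.exists_swap' hab
  obtain ⟨K, hK⟩ := h.exists_fr hab hu e
  obtain ⟨s, hs, s1⟩ := h.exists_A a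
  obtain ⟨N, h1, h2, h3⟩ | ⟨n, hn, -, -, -, h1⟩ := BSW.dichotomy (h.A_ab a) (fun s hs s1 g hg => by
    have h1 := h.cent_le hs s1 (mem_cent1.2 hg)
    obtain ⟨t, ht, e⟩ := h.tr a b (g • b) hab fun e => hab (smul_left_cancel g (h1.trans e))
    rwa [← inv_mul_eq_one.1 (hK.eq_one (hK.D_le hG (mem_D.2 ⟨mul_mem (inv_mem (h.A_le a ht)) h1,
      by rw [mul_smul, ← e, inv_smul_smul]⟩)) hs s1 (mem_cent1.1 (mul_mem (inv_mem
        (cent_le_cent1 hs (Ab.le_cent (h.A_ab a) ht))) (mem_cent1.2 hg))).symm)]) hs s1 (h.sq hs)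
  · obtain rfl := h1.eq_bot_or_eq_top.resolve_left h2
    exact (hab ((h.cent_le hs s1 (mem_cent1.2 (ab_iff.1 h3 u (mem_top _) s (mem_top _)))).symm.trans
      e)).elim
  · exact ⟨n, hn, h1⟩

theorem smul_mk_iff : t • (g : G ⧸ M) = g ↔ g⁻¹ * t * g⁻¹⁻¹ ∈ M := by
  rw [eq_comm, inv_inv, mul_assoc]
  exact QuotientGroup.eq

theorem hyp_of_se (h2 : R1.Ab2 G) (hM : ZL.SE M)
    (hc : ∀ s ∈ M, ∀ t ∈ M, s * s = 1 → t * t = 1 → s * t = t * s)
    (h4 : ∃ s ∈ M, ∃ t ∈ M, s ≠ 1 ∧ t ≠ 1 ∧ s ≠ t ∧ s * s = 1 ∧ t * t = 1) : Hyp G (G ⧸ M) := by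
  have hp : Pre G (G ⧸ M) := ⟨fun t t2 => by
      obtain ⟨S, hS⟩ := exists_syl 2 M
      obtain ⟨g, -, e⟩ := (hM.syl hS).exists_conj_le (le_top : zpowers t ≤ ⊤)
        (.of_card_dvd_pow (n := 1) (by
          rw [Nat.card_zpowers]; exact orderOf_dvd_of_pow_eq_one (by rwa [pow_one, pow_two])))
      exact ⟨(g⁻¹ : G), smul_mk_iff.2 (by simpa using hS.le (e (conj_mem_conj (mem_zpowers t))))⟩,
    fun {t a b} t1 t2 => QuotientGroup.induction_on a fun g => QuotientGroup.induction_on b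
      fun k e e' => (QuotientGroup.eq.2 (hM.mem (smul_mk_iff.1 e) ((orderOf_conj _ _).trans
        (orderOf_eq_prime (by rwa [pow_two]) t1)) (by
          simpa [mul_assoc] using smul_mk_iff.1 e'))).symm,
    fun {s t a} s2 t2 => QuotientGroup.induction_on a fun g e e' => by
      have := hc _ (smul_mk_iff.1 e) _ (smul_mk_iff.1 e') (BSW.conj_mul_self s2)
        (BSW.conj_mul_self t2)
      rwa [conj_mul, conj_mul, mul_left_inj, mul_right_inj] at this, h2⟩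
  obtain ⟨g, -, hg⟩ := SetLike.exists_of_lt hM.ne.lt_top
  refine ⟨hp, exists_smul_eq G, ⟨(1 : G), g, fun e => hg (by simpa using QuotientGroup.eq.1 e)⟩,
    fun c => ?_⟩
  obtain ⟨g, rfl⟩ := exists_smul_eq G ((1 : G) : G ⧸ M) c
  obtain ⟨s, hs, t, ht, s1, t1, e, s2, t2⟩ := h4
  rw [← conj_A, card_conj]
  exact two_lt_card (hp.mem_A.2 ⟨smul_mk_iff.2 (by simpa), s2⟩)
    (hp.mem_A.2 ⟨smul_mk_iff.2 (by simpa), t2⟩) s1 t1 e

section
variable (h2 : R1.Ab2 G) (hM : ZL.SE M)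
  (hc : ∀ s ∈ M, ∀ t ∈ M, s * s = 1 → t * t = 1 → s * t = t * s)
  (h4 : ∃ s ∈ M, ∃ t ∈ M, s ≠ 1 ∧ t ≠ 1 ∧ s ≠ t ∧ s * s = 1 ∧ t * t = 1)
include h2 hM hc h4

theorem main (hs : IsSimpleGroup G) : ∃ n : ℕ, 2 ≤ n ∧
    Nonempty (G ≃* Matrix.ProjectiveSpecialLinearGroup (Fin 2) (GaloisField 2 n)) :=
  (hyp_of_se h2 hM hc h4).psl hs

/-- the involutions of `M` permute the other cosets of `M` transitively -/
theorem trans (hg : g ∉ M) (hk : k ∉ M) : ∃ t ∈ M, t * t = 1 ∧ k⁻¹ * (t * g) ∈ M := by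
  have h := hyp_of_se h2 hM hc h4
  obtain ⟨t, ht, e⟩ := h.tr (1 : G) g k (fun e => hg (by simpa using QuotientGroup.eq.1 e))
    fun e => hk (by simpa using QuotientGroup.eq.1 e)
  exact ⟨t, by simpa using smul_mk_iff.1 (h.fix ht), h.sq ht, QuotientGroup.eq.1 e.symm⟩

theorem index (hE : ∀ t, t ∈ E ↔ t ∈ M ∧ t * t = 1) : M.index = ♯E + 1 := by
  have h := hyp_of_se h2 hM hc h4
  rw [index_eq_card, h.card_eq (1 : G), show A G ((1 : G) : G ⧸ M) = E from Subgroup.ext fun t => by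
    rw [h.mem_A, smul_mk_iff, hE, inv_inv, inv_one, one_mul, mul_one]]

end

theorem sea (hs : IsSimpleGroup G) (h2 : R1.Ab2 G) (hE : IsElementaryAbelian 2 E) (h4 : 2 < ♯E)
    (hM : ZL.SE M) (hEM : E ≤ M) (h : ∀ t ∈ M, t * t = 1 → t ∈ E) : ∃ n : ℕ, 2 ≤ n ∧
      Nonempty (G ≃* Matrix.ProjectiveSpecialLinearGroup (Fin 2) (GaloisField 2 n)) := by
  refine main h2 hM (fun s hs t ht s2 t2 => ab_iff.1 hE.1 _ (h s hs s2) _ (h t ht t2)) ?_ hs
  have := ncard_sharp E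
  obtain ⟨s, hs, t, ht, e⟩ := (Set.one_lt_ncard (s := sharp E) (Set.toFinite _)).1 (by omega)
  exact ⟨s, hEM hs.1, t, hEM ht.1, hs.2, ht.2, e, pow_two s ▸ hE.2 s hs.1, pow_two t ▸ hE.2 t ht.1⟩

end Cfsg.Agent.SEA
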