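import Cfsg.Agent.Lib.R1.Hyp3
import Cfsg.Agent.Lib.ZL.SEB

/-!
# Permutation groups in which every involution fixes exactly one point: elementary facts
-/

set_option autoImplicit false
set_option linter.unusedSectionVars false

namespace Cfsg.Agent.SEA

open Subgroup MulAction Cfsg.Agent.Coprime Cfsg.Agent.OO
open scoped Pointwise

universe u v

variable (G : Type u) {Ω : Type v} [Group G] [MulAction G Ω]

/-- the group generated by the involutions fixing `a` -/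
def A (a : Ω) : Subgroup G := closure {t | t • a = a ∧ t * t = 1}

/-- the two point stabilizer -/
def D (a b : Ω) : Subgroup G := stabilizer G a ⊓ stabilizer G b

variable (Ω) in
structure Pre : Prop where
  ex : ∀ t : G, t * t = 1 → ∃ c : Ω, t • c = c
  uniq : ∀ {t : G} {a b : Ω}, t ≠ 1 → t * t = 1 → t • a = a → t • b = b → a = b
  comm : ∀ {s t : G} {a : Ω}, s * s = 1 → t * t = 1 → s • a = a → t • a = a → s * t = t * s
  ab2 : R1.Ab2 G

variable (Ω) in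
structure Hyp : Prop extends Pre G Ω where
  trans : ∀ a b : Ω, ∃ g : G, g • a = b
  nontriv : Nontrivial Ω
  four : ∀ a : Ω, 2 < ♯(A G a)

variable {G} {a b c : Ω} {d g k s t u w x y : G} {H X : Subgroup G}

theorem mem_D : g ∈ D G a b ↔ g • a = a ∧ g • b = b := Iff.rfl

theorem D_comm (a b : Ω) : D G a b = D G b a := inf_comm _ _

theorem D_le (a b : Ω) : D G a b ≤ stabilizer G a := inf_le_left

theorem conj_smul_smul : (g * x * g⁻¹) • g • a = g • x • a := by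
  rw [← mul_smul, inv_mul_cancel_right, mul_smul]

theorem conj_fix_iff : (g * x * g⁻¹) • g • a = g • b ↔ x • a = b := by
  rw [conj_smul_smul, smul_left_cancel_iff]

theorem conj_stab (g : G) (a : Ω) : g •ᶜ stabilizer G a = stabilizer G (g • a) := by
  ext x
  rw [OO.mem_conj, mem_stabilizer_iff, mem_stabilizer_iff, mul_smul, mul_smul, inv_smul_eq_iff]

theorem conj_D (g : G) (a b : Ω) : g •ᶜ D G a b = D G (g • a) (g • b) := by
  rw [D, conj_inf, conj_stab, conj_stab, D]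

theorem swap (hw : w * w = 1) (h : w • a = b) : w • b = a := by
  rw [← h, ← mul_smul, hw, one_smul]

theorem swap_norm (hw : w * w = 1) (h : w • a = b) : w ∈ 𝐍(D G a b) := by
  rw [← conj_eq_self_iff, conj_D, h, swap hw h, D_comm]

theorem swap_ne_one (hab : a ≠ b) (h : w • a = b) : w ≠ 1 := by
  rintro rfl
  exact hab (by simpa using h)

theorem mul_mem_D (hw : w * w = 1) (h : w • a = b) (hu : u * u = 1) (h' : u • a = b) :
    w * u ∈ D G a b := mem_D.2 ⟨by rw [mul_smul, h', swap hw h], by rw [mul_smul, swap hu h', h]⟩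

theorem conj_A (g : G) (a : Ω) : g •ᶜ A G a = A G (g • a) := by
  rw [A, A, conj_closure]
  congr 1
  ext x
  refine ⟨?_, fun h => ⟨g⁻¹ * x * g⁻¹⁻¹, ⟨?_, BSW.conj_mul_self h.2⟩, by group⟩⟩
  · rintro ⟨y, hy, rfl⟩
    exact ⟨conj_fix_iff.2 hy.1, BSW.conj_mul_self hy.2⟩
  · rw [inv_inv, mul_smul, mul_smul, h.1, inv_smul_smul]

theorem stab_le_norm (a : Ω) : stabilizer G a ≤ 𝐍(A G a) := fun g hg => by
  rw [← conj_eq_self_iff, conj_A, mem_stabilizer_iff.1 hg]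

theorem conj_mem_A (hs : s ∈ A G a) (g : G) : g * s * g⁻¹ ∈ A G (g • a) :=
  conj_A g a ▸ conj_mem_conj hs

theorem smul_fix_of_norm (hg : g ∈ 𝐍(X)) (h : X ≤ stabilizer G a) : X ≤ stabilizer G (g • a) := by
  rw [← conj_stab, ← conj_eq_of_mem_norm hg]
  exact conj_mono g h

theorem odd_sq_eq_one (hx : ¬ 2 ∣ orderOf x) (h : x * x = 1) : x = 1 := by
  by_contra e
  exact hx (orderOf_eq_prime (p := 2) (by rwa [pow_two]) e).symm.dvd

theorem exists_sqrt [Finite G] (hx : ¬ 2 ∣ orderOf x) : ∃ j : ℕ, x ^ j * x ^ j = x := by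
  obtain ⟨j, hj⟩ : Odd (orderOf x) := Nat.not_even_iff_odd.1 fun e => hx e.two_dvd
  refine ⟨j + 1, ?_⟩
  rw [← pow_add, show j + 1 + (j + 1) = orderOf x + 1 by omega, pow_succ, pow_orderOf_eq_one, one_mul]

namespace Pre

variable (h : Pre G Ω)
include h

theorem mem_A : t ∈ A G a ↔ t • a = a ∧ t * t = 1 := by
  refine ⟨fun ht => ?_, fun ht => subset_closure ht⟩
  induction ht using closure_induction with
  | mem x hx => exact hx
  | one => simp
  | mul x y _ _ hx hy =>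
    refine ⟨by rw [mul_smul, hy.1, hx.1], ?_⟩
    rw [mul_assoc, ← mul_assoc y, ← h.comm hx.2 hy.2 hx.1 hy.1, mul_assoc, hy.2, mul_one, hx.2]
  | inv x _ hx => rwa [BSW.inv_eq_of_mul_self hx.2]

theorem sq (ht : t ∈ A G a) : t * t = 1 := (h.mem_A.1 ht).2

theorem fix (ht : t ∈ A G a) : t • a = a := (h.mem_A.1 ht).1

theorem inv_eq (ht : t ∈ A G a) : t⁻¹ = t := BSW.inv_eq_of_mul_self (h.sq ht)

theorem A_le (a : Ω) : A G a ≤ stabilizer G a := fun _ ht => h.fix ht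

theorem A_normal (a : Ω) : A G a ⊴ stabilizer G a := ⟨h.A_le a, stab_le_norm a⟩

theorem A_ab (a : Ω) : Ab (A G a) :=
  ab_iff.2 fun _ hs _ ht => h.comm (h.sq hs) (h.sq ht) (h.fix hs) (h.fix ht)

theorem abelem (a : Ω) : IsElementaryAbelian 2 (A G a) :=
  ⟨h.A_ab a, fun x hx => by rw [pow_two, h.sq hx]⟩

theorem A_two (a : Ω) : IsPGroup 2 (A G a) := abelem_isPGroup (h.abelem a)

theorem eq_of_fix (hs : s ∈ A G a) (s1 : s ≠ 1) (e : s • b = b) : a = b :=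
  h.uniq s1 (h.sq hs) (h.fix hs) e

theorem fix_of_conj (hs : s ∈ A G a) (s1 : s ≠ 1) (e : g * s * g⁻¹ ∈ A G b) : g • a = b :=
  h.eq_of_fix (conj_mem_A hs g) (BSW.conj_ne_one s1) (h.fix e)

theorem cent_le (hs : s ∈ A G a) (s1 : s ≠ 1) : 𝐂[s] ≤ stabilizer G a := fun _ hg =>
  h.fix_of_conj hs s1 ((mem_cent1_iff_conj.1 hg).symm ▸ hs)

theorem smul_ne (hs : s ∈ A G a) (s1 : s ≠ 1) (hab : a ≠ b) : s • b ≠ b :=
  fun e => hab (h.eq_of_fix hs s1 e)

theorem smul_ne' (hs : s ∈ A G a) (hab : a ≠ b) : a ≠ s • b := fun e =>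
  hab (by rw [← swap (h.sq hs) e.symm, h.fix hs])

variable [Finite G]

theorem odd_D (hab : a ≠ b) : ¬ 2 ∣ ♯(D G a b) := fun e => by
  obtain ⟨z, hz, z1, z2⟩ := R1.exists_invol_mem e
  exact hab (h.uniq z1 z2 hz.1 hz.2)

theorem odd_of_mem_D (hab : a ≠ b) (hd : d ∈ D G a b) : ¬ 2 ∣ orderOf d :=
  fun e => h.odd_D hab (e.trans (orderOf_dvd_card hd))

theorem odd_mul (hab : a ≠ b) (hs : s ∈ A G a) (s1 : s ≠ 1) (ht : t ∈ A G b) (t1 : t ≠ 1) :
    ¬ 2 ∣ orderOf (t * s) := fun ⟨m, hm⟩ => by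
  have h1 := R1.commute_of_pow_sq (h.sq ht) (h.sq hs) (hm ▸ pow_orderOf_eq_one (t * s))
  have h0 := orderOf_pos (t * s)
  have z1 : (t * s) ^ m ≠ 1 := pow_ne_one_of_lt_orderOf (by omega) (by omega)
  have hz : (t * s) ^ m ∈ A G a := h.mem_A.2 ⟨h.cent_le hs s1 (mem_cent1.2 h1.eq), by
    rw [← pow_add, ← two_mul, ← hm, pow_orderOf_eq_one]⟩
  have h3 := h.cent_le hz z1 (mem_cent1.2 (Commute.self_pow (t * s) m).eq)
  rw [mem_stabilizer_iff, mul_smul, h.fix hs] at h3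
  exact hab (h.eq_of_fix ht t1 h3).symm

theorem exists_swap (hab : a ≠ b) (hs : s ∈ A G a) (s1 : s ≠ 1) (ht : t ∈ A G b) (t1 : t ≠ 1) :
    ∃ w, w * w = 1 ∧ w • a = b ∧ w * s * w⁻¹ = t ∧ ∀ H : Subgroup G, s ∈ H → t ∈ H → w ∈ H := by
  obtain ⟨j, hj⟩ := R1.exists_conj_of_odd (h.sq ht) (h.sq hs) (h.odd_mul hab hs s1 ht t1)
  have e : s * (t * s) * s⁻¹ = (t * s)⁻¹ := by
    rw [mul_inv_rev, h.inv_eq hs, h.inv_eq ht, ← mul_assoc, mul_assoc, h.sq hs, mul_one]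
  have e2 : (t * s) ^ j * s * s * ((t * s) ^ j * s)⁻¹ = t := by nth_rw 3 [← hj]; group
  refine ⟨(t * s) ^ j * s, ?_, h.fix_of_conj hs s1 (e2.symm ▸ ht), e2,
    fun H h1 h2 => mul_mem (pow_mem (mul_mem h2 h1) j) h1⟩
  calc _ = (t * s) ^ j * (s * (t * s) * s⁻¹) ^ j * (s * s) := by rw [conj_pow]; group
    _ = 1 := by rw [e, h.sq hs, inv_pow]; group

/-- an element of odd order inverted by an involution `w` centralizes no involution at another point -/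
theorem eq_one_of_inverted (hw : w * w = 1) (hwa : w • a ≠ a) (hk : ¬ 2 ∣ orderOf k)
    (e : w * k * w⁻¹ = k⁻¹) (hs : s ∈ A G a) (s1 : s ≠ 1) (hc : s * k = k * s) : k = 1 := by
  obtain ⟨c, hc'⟩ := h.ex w hw
  obtain ⟨v, -, -, h1, h2⟩ := h.exists_swap (a := a) (b := c) (by rintro rfl; exact hwa hc') hs s1
    (h.mem_A.2 ⟨hc', hw⟩) (by rintro rfl; simp at hwa)
  have h3 : v ∈ 𝐍(𝐂(zpowers k)) := norm_le_norm_cent _ (h2 _
    (cent_le_norm _ (cent_zpowers k ▸ mem_cent1.2 hc))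
    (mem_norm_of_conj_le (by rw [conj_zpowers, e, zpowers_inv])))
  have h4 := conj_mem_of_norm h3 (cent_zpowers k ▸ mem_cent1.2 hc)
  rw [h1, cent_zpowers, mem_cent1_comm, mem_cent1] at h4
  refine odd_sq_eq_one hk ?_
  nth_rw 1 [← inv_inv k, ← e, ← h4]
  group

theorem swap_inj (hab : a ≠ b) (hs : s ∈ A G a) (s1 : s ≠ 1) (hw : w * w = 1) (h1 : w • a = b)
    (hu : u * u = 1) (h2 : u • a = b) (e : w * s * w⁻¹ = u * s * u⁻¹) : w = u := by
  have h3 := h.eq_one_of_inverted hw (h1 ▸ hab.symm) (h.odd_of_mem_D hab (mul_mem_D hw h1 hu h2))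
    (by rw [mul_inv_rev, BSW.inv_eq_of_mul_self hw, BSW.inv_eq_of_mul_self hu, ← mul_assoc, hw,
      one_mul]) hs s1 (by
      rw [BSW.inv_eq_of_mul_self hw, BSW.inv_eq_of_mul_self hu] at e
      calc s * (w * u) = w * (w * s * w) * u := by simp only [← mul_assoc, hw, one_mul]
        _ = w * u * s := by rw [e, mul_assoc w, mul_assoc (u * s), hu, mul_one, mul_assoc])
  rw [eq_inv_of_mul_eq_one_left h3, BSW.inv_eq_of_mul_self hu]

/-- an element fixing `a, b` and centralizing both `A a` and `A b` centralizes the involutions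
swapping `a` and `b` -/
theorem conj_swap_eq (hab : a ≠ b) (hs : s ∈ A G a) (s1 : s ≠ 1) (hx : x ∈ D G a b)
    (h1 : x ∈ 𝐂(A G a)) (h2 : x ∈ 𝐂(A G b)) (hw : w * w = 1) (e : w • a = b) :
    x * w * x⁻¹ = w := by
  refine h.swap_inj hab hs s1 (BSW.conj_mul_self hw) (by
    nth_rw 1 [← hx.1]; rw [conj_smul_smul, e, hx.2]) hw e ?_
  nth_rw 1 [← mem_cent_iff_conj.1 h1 s hs]
  rw [← mem_cent_iff_conj.1 h2 (w * s * w⁻¹) (e ▸ conj_mem_A hs w)]
  group

theorem exists_conj (hab : a ≠ b) (hu : u * u = 1) (e : u • a = b) (hs : s ∈ A G a) (s1 : s ≠ 1)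
    (ht : t ∈ A G a) (t1 : t ≠ 1) :
    ∃ k ∈ D G a b, u * k * u⁻¹ = k⁻¹ ∧ k * s * k⁻¹ = t := by
  obtain ⟨w, h1, h2, h3, -⟩ := h.exists_swap hab hs s1 (e ▸ conj_mem_A ht u) (BSW.conj_ne_one t1)
  refine ⟨u * w, mul_mem_D hu e h1 h2, ?_, ?_⟩
  · rw [mul_inv_rev, BSW.inv_eq_of_mul_self h1, ← mul_assoc, hu, one_mul]
  · rw [show u * w * s * (u * w)⁻¹ = u * (w * s * w⁻¹) * u⁻¹ by group, h3,
      BSW.inv_eq_of_mul_self hu]
    simp only [← mul_assoc, hu, one_mul]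
    rw [mul_assoc, hu, mul_one]

theorem fix_of_odd {N : Subgroup G} (hN : ¬ 2 ∣ ♯N) (hV : H ≤ A G a) (h4 : 2 < ♯H)
    (hn : H ≤ 𝐍(N)) : N ≤ stabilizer G a :=
  coprime_abelian_gen_cent1 (ab_of_le (h.A_ab a) hV)
    (ZN.not_isCyclic_of_card (abelem_of_le (h.abelem a) hV) h4) hn
    (coprime_of_isPGroup ((h.A_two a).to_le hV) ((piGrp_compl_singleton Nat.prime_two).2 hN)).symm
    fun _ hs s1 => inf_le_right.trans (h.cent_le (hV hs) s1)

end Pre

namespace Hyp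

variable (h : Hyp G Ω) [Finite G]
include h

theorem card_A (a b : Ω) : ♯(A G a) = ♯(A G b) := by
  obtain ⟨g, rfl⟩ := h.trans a b
  rw [← conj_A, card_conj]

theorem exists_A (a : Ω) : ∃ s ∈ A G a, s ≠ 1 := exists_mem_ne_one fun e => by
  simpa [e] using h.four a

theorem exists_swap' (hab : a ≠ b) : ∃ u : G, u * u = 1 ∧ u • a = b := by
  obtain ⟨s, hs, s1⟩ := h.exists_A a
  obtain ⟨t, ht, t1⟩ := h.exists_A b
  obtain ⟨w, h1, h2, -⟩ := h.exists_swap hab hs s1 ht t1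
  exact ⟨w, h1, h2⟩

theorem finite : Finite Ω := by
  obtain ⟨a⟩ := h.nontriv.to_nonempty
  exact Finite.of_surjective (fun g : G => g • a) (h.trans a)

theorem index_stab (a : Ω) : (stabilizer G a).index = Nat.card Ω :=
  haveI : IsPretransitive G Ω := ⟨h.trans⟩
  index_stabilizer_of_transitive G a

theorem relIndex_cent (hab : a ≠ b) (hs : s ∈ A G a) (s1 : s ≠ 1) (h1 : D G a b ≤ H)
    (h2 : H ≤ stabilizer G a) : (𝐂[s]).relIndex H = ♯(A G a) - 1 := by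
  obtain ⟨u, hu, e⟩ := h.exists_swap' hab
  rw [relIndex_centralizer_eq_ncard, ← ncard_sharp]
  congr 1
  refine Set.ext fun v => ⟨?_, fun hv => ?_⟩
  · rintro ⟨l, hl, rfl⟩
    exact conj_mem_sharp (stab_le_norm a (h2 hl)) ⟨hs, s1⟩
  · obtain ⟨k, hk, -, e⟩ := h.exists_conj hab hu e hs s1 hv.1 hv.2
    exact ⟨k, h1 hk, e.symm⟩

theorem ncard_swap (hab : a ≠ b) : {w : G | w * w = 1 ∧ w • a = b}.ncard = ♯(A G a) - 1 := by
  obtain ⟨s, hs, s1⟩ := h.exists_A a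
  rw [h.card_A a b, ← ncard_sharp]
  refine Set.ncard_congr (fun w _ => w * s * w⁻¹)
    (fun w hw => ⟨hw.2 ▸ conj_mem_A hs w, BSW.conj_ne_one s1⟩)
    (fun w u hw hu e => h.swap_inj hab hs s1 hw.1 hw.2 hu.1 hu.2 e) fun t ht => ?_
  obtain ⟨w, h1, h2, h3, -⟩ := h.exists_swap hab hs s1 ht.1 ht.2
  exact ⟨w, ⟨h1, h2⟩, h3⟩

theorem relIndex_cent_swap (hab : a ≠ b) (hu : u * u = 1) (e : u • a = b) :
    (𝐂[u]).relIndex (D G a b) = ♯(A G a) - 1 := by
  rw [relIndex_centralizer_eq_ncard, ← h.ncard_swap hab]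
  congr 1
  refine Set.ext fun v => ⟨?_, fun hv => ?_⟩
  · rintro ⟨l, hl, rfl⟩
    exact ⟨BSW.conj_mul_self hu, by nth_rw 1 [← hl.1]; rw [conj_smul_smul, e, hl.2]⟩
  · have h1 := mul_mem_D hv.1 hv.2 hu e
    obtain ⟨j, hj⟩ := exists_sqrt (h.odd_of_mem_D hab h1)
    refine ⟨_, pow_mem h1 j, ?_⟩
    have h2 : u * (v * u) * u⁻¹ = (v * u)⁻¹ := by
      rw [mul_inv_rev, BSW.inv_eq_of_mul_self hv.1, BSW.inv_eq_of_mul_self hu, ← mul_assoc,
        mul_assoc, hu, mul_one]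
    rw [← inv_pow, ← h2, conj_pow, ← mul_assoc, ← mul_assoc, mul_assoc _ u u, hu, mul_one, hj,
      mul_inv_cancel_right]

end Hyp

end Cfsg.Agent.SEA
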