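import Cfsg.Agent.Lib.SEA.Four
import Cfsg.Agent.Lib.Blk.Main

/-!
# The principal 2-block when the Sylow 2-subgroups are elementary abelian
-/

set_option autoImplicit false
set_option linter.unusedSectionVars false

namespace Cfsg.Agent.SEA

open Subgroup MulAction Cfsg.Agent.Coprime Cfsg.Agent.OO Cfsg.Agent.ODD Cfsg.Agent.Blk
open scoped Pointwise ComplexConjugate

universe u v

variable {G : Type u} {Ω : Type v} [Group G] [MulAction G Ω] [Finite G]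
  {a b c : Ω} {d g k l r s t u w x y : G} {H K L N P S U Y : Subgroup G} {χ : G → ℂ}

theorem card_mul_le (s2 : s * s = 1) {X Z : Set G} (hX : X ⊆ Reg 2 𝐂[s])
    (hZ : ∀ g, ∀ r ∈ X, g * (s * r) * g⁻¹ ∈ Z) : Nat.card G * X.ncard ≤ ♯𝐂[s] * Z.ncard := by
  classical
  rw [← card_top, ← card_elts, ← card_elts_set, ← card_elts_set, ← Finset.card_product]
  refine Finset.card_le_mul_card_image_of_maps_to (f := fun p => p.1 * (s * p.2) * p.1⁻¹)
    (fun p hp => mem_elts.2 (hZ _ _ (mem_elts.1 (Finset.mem_product.1 hp).2))) _ fun z _ => ?_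
  rcases Finset.eq_empty_or_nonempty _ with e | ⟨p, hp⟩
  · exact (congrArg Finset.card e).trans_le (Nat.zero_le _)
  obtain ⟨h1, rfl⟩ := Finset.mem_filter.1 hp
  rw [← card_elts]
  refine Finset.card_le_card_of_injOn (fun q => p.1⁻¹ * q.1) (fun q hq => ?_) fun q hq r hr e => ?_
  · obtain ⟨h2, h3⟩ := Finset.mem_filter.1 hq
    have h4 := hX (mem_elts.1 (Finset.mem_product.1 h1).2)
    have h5 := hX (mem_elts.1 (Finset.mem_product.1 h2).2)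
    obtain ⟨j, hj⟩ : Odd (orderOf p.2 * orderOf q.2) := Nat.not_even_iff_odd.1 fun e =>
      ((Nat.Prime.dvd_mul Nat.prime_two).1 e.two_dvd).elim h4.2 h5.2
    have key : ∀ r ∈ 𝐂[s], r ^ (2 * j + 1) = 1 → (s * r) ^ (2 * j + 1) = s := fun r hr e => by
      rw [Commute.mul_pow (mem_cent1.1 hr).symm, e, mul_one, pow_succ, pow_mul, pow_two, s2,
        one_pow, one_mul]
    have h6 := congrArg (· ^ (2 * j + 1)) h3
    simp only [conj_pow] at h6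
    rw [key _ h4.1 (by rw [← hj, pow_mul, pow_orderOf_eq_one, one_pow]),
      key _ h5.1 (by rw [← hj, pow_mul', pow_orderOf_eq_one, one_pow])] at h6
    refine mem_elts.2 (mem_cent1_iff_conj.2 ?_)
    rw [show p.1⁻¹ * q.1 * s * (p.1⁻¹ * q.1)⁻¹ = p.1⁻¹ * (q.1 * s * q.1⁻¹) * p.1 by group, h6]
    group
  · have h2 := mul_left_cancel e
    have h3 := (Finset.mem_filter.1 hq).2.trans (Finset.mem_filter.1 hr).2.symm
    rw [h2] at h3
    exact Prod.ext h2 (by simpa using h3)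

theorem dvd_of_free (h : IsSdprod N L P) (hχ : IsChar ⊤ χ) {n : ℕ}
    (hn : χ 1 - ⟪χ, cf1 N⟫[N] = n) (e : ∀ l ∈ L, l ≠ 1 → ∀ y ∈ N, χ (y * l) = χ l) : ♯L ∣ n := by
  obtain ⟨i, hi⟩ := Cnat_cfdot_char (hχ.cfRes (le_top : L ≤ ⊤)) (isChar_cf1 L)
  obtain ⟨j, hj⟩ := Cnat_cfdot_char (hχ.cfRes (le_top : P ≤ ⊤)) (isChar_cf1 P)
  rw [cfdot_cfRes_left, cfdot_cf1r] at hi hj
  rw [sum_elts_sdprod h, Finset.sum_comm, ← h.card, sub_eq_iff_eq_add.1 (sum_sharp L _).symm,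
    Finset.sum_congr rfl fun l hl => Finset.sum_congr rfl fun y hy =>
      e l (mem_elts.1 hl).1 (mem_elts.1 hl).2 y (mem_elts.1 hy)] at hj
  simp only [sum_elts_const, nsmul_eq_mul, ← Finset.mul_sum, mul_one, sum_sharp] at hj
  rw [cfdot_cf1r] at hn
  refine Int.natCast_dvd_natCast.1 ⟨i - j, Int.cast_injective (α := ℂ) ?_⟩
  have h1 := cardC_ne_zero N
  have h2 := cardC_ne_zero L
  push_cast at hj ⊢
  rw [← hn, ← hi, ← hj]
  field_simp
  ring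

theorem num {q v ρ e : ℝ} (hq : 4 ≤ q) (h0 : e ≤ 1 / q ^ 2) (h1 : ρ - e ≤ √(ρ - ρ ^ 2) * v / (q - 1))
    (h2 : 1 ≤ ρ * q ∧ v = 1 ∨ 5 ≤ 3 * (ρ * q) ∧ v ^ 2 ≤ q + 1 ∧ 8 ≤ q) (h3 : ρ ≤ 1) : False := by
  obtain ⟨x, rfl⟩ : ∃ x, ρ = x / q := ⟨ρ * q, by field_simp⟩
  have p1 : 0 < q := by linarith
  have p2 : 0 < q - 1 := by linarith
  rw [div_mul_cancel₀ _ p1.ne'] at h2
  have p3 : 1 ≤ x := by rcases h2 with h2 | h2 <;> linarith [h2.1]
  have p4 : 0 ≤ x / q - (x / q) ^ 2 := by nlinarith [div_pos (one_pos.trans_le p3) p1]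
  have p5 : ((x * q - 1) / q ^ 2 * (q - 1)) ^ 2 ≤ (x / q - (x / q) ^ 2) * v ^ 2 := by
    rw [← Real.sq_sqrt p4, ← mul_pow]
    refine pow_le_pow_left₀ (by have : 0 ≤ x * q - 1 := by nlinarith
                                positivity) ((le_div_iff₀ p2).1 (le_trans ?_ h1)) 2
    rw [show (x * q - 1) / q ^ 2 = x / q - 1 / q ^ 2 by field_simp]
    linarith
  have p6 : ((x * q - 1) * (q - 1)) ^ 2 ≤ x * q ^ 2 * (q - x) * v ^ 2 := by
    have := mul_le_mul_of_nonneg_left p5 (show 0 ≤ q ^ 4 by positivity)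
    rwa [show q ^ 4 * ((x * q - 1) / q ^ 2 * (q - 1)) ^ 2 = ((x * q - 1) * (q - 1)) ^ 2 by field_simp,
      show q ^ 4 * ((x / q - (x / q) ^ 2) * v ^ 2) = x * q ^ 2 * (q - x) * v ^ 2 by field_simp] at this
  have p7 : 0 ≤ x * q ^ 2 * (q - x) := by
    have := (div_le_one p1).1 h3
    have : 0 ≤ q - x := by linarith
    positivity
  rcases h2 with ⟨-, rfl⟩ | ⟨h4, h5, h6⟩
  · obtain ⟨y, rfl⟩ : ∃ y, x = y + 1 := ⟨x - 1, by ring⟩
    obtain ⟨r, rfl⟩ : ∃ r, q = r + 4 := ⟨q - 4, by ring⟩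
    have : 0 ≤ y := by linarith
    have : 0 ≤ r := by linarith
    have : 0 < (r + 3) ^ 2 + (y + 1) * (r + 4) * (y * (r + 4) * ((r + 3) ^ 2 + 1) +
      (r ^ 3 + 7 * r ^ 2 + 14 * r + 6)) := by positivity
    nlinarith
  · have p8 := p6.trans (mul_le_mul_of_nonneg_left h5 p7)
    obtain ⟨y, rfl⟩ : ∃ y, x = y + 5 / 3 := ⟨x - 5 / 3, by ring⟩
    obtain ⟨r, rfl⟩ : ∃ r, q = r + 8 := ⟨q - 8, by ring⟩
    have : 0 ≤ y := by linarith
    have : 0 ≤ r := by linarith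
    have : 0 < (r + 7) ^ 2 + (y + 5 / 3) * (r + 8) * (y * (r + 8) * ((r + 8) * (r + 7) + 2) +
      (2 / 3 * (r + 8) ^ 2 * (r + 1) + 22 / 3 * r + 170 / 3)) := by positivity
    nlinarith

theorem sum_B0_le (s2 : s * s = 1) (hY : Y ⊴ ⊤ ⊓ 𝐂[s]) (ho : ¬ 2 ∣ ♯Y) :
    ♯Y * ∑ χ ∈ B0 2 (⊤ : Subgroup G), ‖χ s‖ ^ 2 ≤ ♯𝐂[s] := by
  have h1 := (orthonormal_of_irr fun χ (e : χ ∈ B0 2 (⊤ : Subgroup G)) =>
    isIrr_of_mem_B0 e).cfnorm_sum fun χ => conj (χ s)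
  have h2 : ∀ g, ∀ y ∈ Y, (∑ χ ∈ B0 2 (⊤ : Subgroup G), conj (χ s) • χ) (g * (s * y) * g⁻¹) =
      (∑ χ ∈ B0 2 (⊤ : Subgroup G), ‖χ s‖ ^ 2 : ℝ) := fun g y hy => by
    rw [Finset.sum_apply, Complex.ofReal_sum]
    refine Finset.sum_congr rfl fun χ e => ?_
    rw [Pi.smul_apply, cfunJ (isIrr_of_mem_B0 e).mem_CF (mem_top g), apply_mul_eq_of_mem_B0 (k := 1)
      e (mem_top s) (by rwa [pow_one, pow_two]) hY ho hy, smul_eq_mul, Complex.conj_mul']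
    simp
  simp only [Complex.norm_conj] at h1
  have h0 : 0 ≤ ∑ χ ∈ B0 2 (⊤ : Subgroup G), ‖χ s‖ ^ 2 := by positivity
  generalize ∑ χ ∈ B0 2 (⊤ : Subgroup G), ‖χ s‖ ^ 2 = Δ at h0 h1 h2
  generalize ∑ χ ∈ B0 2 (⊤ : Subgroup G), conj (χ s) • χ = ψ at h1 h2
  have h3 : (Nat.card G * ♯Y : ℝ) ≤ ♯𝐂[s] * {x | ψ x = Δ}.ncard := by
    exact_mod_cast card_mul_le s2 (X := Y) (Z := {x | ψ x = Δ})
      (fun y hy => ⟨(hY.le hy).2, fun e => ho (e.trans (orderOf_dvd_card hy))⟩) h2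
  have h4 := sum_norm_sq_le (H := ⊤) (A := {x | ψ x = Δ}) (fun x _ => mem_top x) ψ
  rw [h1, Finset.sum_congr rfl (g := fun _ => Δ ^ 2) fun x hx => by
    have hx := mem_elts.1 hx
    rw [show ψ x = Δ from hx, Complex.norm_real, Real.norm_eq_abs, sq_abs],
    Finset.sum_const, card_elts_set, card_top, nsmul_eq_mul,
    inv_mul_le_iff₀ (by exact_mod_cast Nat.card_pos)] at h4
  rcases h0.eq_or_lt with rfl | h0
  · simp
  refine le_of_mul_le_mul_left ?_ (mul_pos (show (0 : ℝ) < Nat.card G by exact_mod_cast Nat.card_pos) h0)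
  nlinarith [mul_le_mul_of_nonneg_right h3 (sq_nonneg Δ),
    mul_le_mul_of_nonneg_left h4 (Nat.cast_nonneg ♯𝐂[s])]

theorem Hyp.ineq (h : Hyp G Ω) (hs : s ∈ A G a) (s1 : s ≠ 1) {d ρ : ℝ} (hd : 0 < d)
    (hρ : ρ = ({x : G | 2 ∣ orderOf x}.ncard : ℝ) / Nat.card G)
    (deg : ∀ χ ∈ B0 2 (⊤ : Subgroup G), χ ≠ cf1 ⊤ → d ≤ ‖χ 1‖) :
    ρ - (♯(A G a) - 2) / (Invs G).ncard ≤
      √(ρ - ρ ^ 2) * (∑ χ ∈ B0 2 (⊤ : Subgroup G), ‖χ s‖ ^ 2) / d := by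
  classical
  obtain ⟨f, hf⟩ : ∃ f, f = cf1 (⊤ : Subgroup G) - regInd 2 ⊤ := ⟨_, rfl⟩
  have f0 : f ∈ CF ⊤ := hf ▸ sub_mem (cf1_mem_CF _) regInd_mem_CF
  have f1 : Ev f := fun x hx => by
    rw [hf, Pi.sub_apply, cf1E (mem_top x), regInd_of_mem ⟨mem_top x, hx⟩, sub_self]
  have f2 : ∀ x, 2 ∣ orderOf x → f x = 1 := fun x hx => by
    rw [hf, Pi.sub_apply, cf1E (mem_top x), regInd_of_not_mem fun e => e.2 hx, sub_zero]
  have f3 : ∀ ψ : G → ℂ, (∀ x, 2 ∣ orderOf x → ψ x = 1) → ⟪f, ψ⟫[⊤] = ρ := fun ψ e => by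
    rw [cfdotEl (A := {x | 2 ∣ orderOf x}) (fun x _ => mem_top x) (fun x hx => f1 x hx),
      Finset.sum_congr rfl (g := fun _ => 1) fun x hx => by
        have hx := mem_elts.1 hx
        rw [f2 x hx, e x hx, map_one, mul_one],
      Finset.sum_const, card_elts_set, card_top, hρ]
    simp [div_eq_inv_mul]
  have f4 := f3 _ fun x _ => cf1E (mem_top x)
  have f5 : ∀ χ ∈ (Irr ⊤).erase (cf1 ⊤), χ ∉ B0 2 (⊤ : Subgroup G) → ⟪f, χ⟫[⊤] = 0 :=
    fun χ e e' => by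
      obtain ⟨e1, e2⟩ := Finset.mem_erase.1 e
      rw [cfdotC, hf, cfdotBr, cfdot_irr_ne (mem_Irr.1 e2) (isIrr_cf1 _) e1, cfdotC, cfdotE]
      simp only [sum_regInd_mul, ← map_sum, not_not.1 (mt (fun e => mem_B0.2 ⟨mem_Irr.1 e2, e⟩) e')]
      simp
  have f6 : ∀ χ ∈ (Irr ⊤).erase (cf1 ⊤), ‖⟪f, χ⟫[⊤]‖ ≤ √(ρ - ρ ^ 2) := fun χ e => by
    have := cfnorm_sum_irr f0
    rw [cfnorm_eq_of_cfdot (f3 f f2), ← Finset.add_sum_erase _ _ (mem_Irr.2 (isIrr_cf1 _)), f4,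
      Complex.norm_real, Real.norm_eq_abs, sq_abs] at this
    exact Real.le_sqrt_of_sq_le (le_sub_iff_add_le'.2 ((add_le_add_right (Finset.single_le_sum
      (f := fun χ => ‖⟪f, χ⟫[⊤]‖ ^ 2) (fun _ _ => sq_nonneg _) e) _).trans_eq this.symm))
  have hI : (0 : ℝ) < (Invs G).ncard := Nat.cast_pos.2
    ((Set.ncard_pos (Set.toFinite _)).2 ⟨s, s1, h.sq hs⟩)
  have e1 := h.invSum_ev hs s1 f0 f1
  have e2 := h.invSum_dirr hs s1 (isIrr_cf1 (⊤ : Subgroup G)).isDirr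
  rw [cf1_one, one_mul, cf1E (mem_top s), mul_one] at e2
  rw [f2 s (orderOf_eq_prime (p := 2) (by rw [pow_two, h.sq hs]) s1).symm.dvd, mul_one,
    cfun_sum_cfdot f0, invSum_sum, ← Finset.add_sum_erase _ _ (mem_Irr.2 (isIrr_cf1 _)),
    invSum_smul, f4, e2, ← Finset.sum_subset (s₁ := (B0 2 ⊤).erase (cf1 ⊤))
      (Finset.erase_subset_erase _ B0_subset) fun χ e e' => by
        rw [f5 χ e fun e1 => e' (Finset.mem_erase.2 ⟨(Finset.mem_erase.1 e).1, e1⟩), invSum_smul,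
          zero_mul]] at e1
  have e3 : ‖∑ χ ∈ (B0 2 ⊤).erase (cf1 ⊤), invSum (⟪f, χ⟫[⊤] • χ)‖ ≤
      ∑ χ ∈ B0 2 (⊤ : Subgroup G), √(ρ - ρ ^ 2) * ((Invs G).ncard ^ 2 * ‖χ s‖ ^ 2 / d) := by
    refine (norm_sum_le _ _).trans ((Finset.sum_le_sum fun χ e => ?_).trans
      (Finset.sum_le_sum_of_subset_of_nonneg (Finset.erase_subset _ _) fun _ _ _ => by positivity))
    obtain ⟨e3, e4⟩ := Finset.mem_erase.1 e
    have e5 := congrArg norm (h.invSum_dirr hs s1 (isIrr_of_mem_B0 e4).isDirr)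
    rw [norm_mul, norm_pow, norm_mul, Complex.norm_natCast, mul_pow] at e5
    rw [invSum_smul, norm_mul]
    refine mul_le_mul (f6 χ (Finset.mem_erase.2 ⟨e3, B0_subset e4⟩)) ((le_div_iff₀' hd).2 ?_)
      (norm_nonneg _) (Real.sqrt_nonneg _)
    exact e5 ▸ mul_le_mul_of_nonneg_right (deg χ e4 e3) (norm_nonneg _)
  rw [eq_sub_of_add_eq' e1, norm_sub_rev, ← Finset.mul_sum, ← Finset.sum_div,
    ← Finset.mul_sum] at e3
  have e4 := (Complex.re_le_norm _).trans e3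
  rw [show (ρ : ℂ) * ((Invs G).ncard : ℂ) ^ 2 - (Invs G).ncard * (♯(A G a) - 2) =
    (ρ * (Invs G).ncard ^ 2 - (Invs G).ncard * (♯(A G a) - 2) : ℝ) by simp, Complex.ofReal_re] at e4
  refine le_of_mul_le_mul_left (le_of_eq_of_le ?_ (e4.trans_eq ?_)) (pow_pos hI 2)
  · field_simp
  · ring

theorem exists_odd_set (hU : IsSdprod P U H) (ho : ¬ 2 ∣ ♯U) (h : ¬ U ≤ 𝐂(P)) :
    ∃ X ⊆ Reg 2 H, 5 * ♯U ≤ 3 * X.ncard := by
  obtain ⟨t, ht, e⟩ := SetLike.not_le_iff_exists.1 fun e => h (hU.toDprod_of_norm e).le_cent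
  have h1 : ∀ g ∈ H, ((g •ᶜ U : Subgroup G) : Set G) ⊆ Reg 2 H := fun g hg x hx =>
    ⟨conj_le_of_mem hg hU.right_le hx, fun e => ho (e.trans (card_conj g U ▸ orderOf_dvd_card hx))⟩
  refine ⟨U ∪ (t •ᶜ U : Subgroup G), Set.union_subset (conj_eq_of_mem (one_mem U) ▸ h1 1 (one_mem H))
    (h1 t (hU.left_le ht)), ?_⟩
  have h2 := Set.ncard_union_add_ncard_inter (U : Set G) (t •ᶜ U : Subgroup G)
  have h3 := card_inf_mul_relIndex U (t •ᶜ U)
  have h4 : U.relIndex (t •ᶜ U) ≠ 1 := fun e' => e (mem_norm_of_conj_le (relIndex_eq_one.1 e'))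
  have h5 : ¬ 2 ∣ U.relIndex (t •ᶜ U) := fun e' => ho (card_conj t U ▸ h3 ▸ e'.mul_left _)
  rw [← coe_inf, ← card_elts_set (U : Set G), ← card_elts_set ((U ⊓ _ : Subgroup G) : Set G),
    ← card_elts_set ((t •ᶜ U : Subgroup G) : Set G)] at h2
  simp only [card_elts, card_conj] at h2 h3
  have := Nat.mul_le_mul_left ♯(U ⊓ t •ᶜ U) (show 3 ≤ U.relIndex (t •ᶜ U) by omega)
  omega

theorem sq_le_two_pow {n : ℕ} (h : 3 ≤ n) : n ^ 2 ≤ 2 ^ n + 1 := by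
  induction n, h using Nat.le_induction with
  | base => norm_num
  | succ n h ih => rw [pow_succ 2 n]; nlinarith

theorem Fr.false_of_normal (h : Fr G a b u K) (hG : IsSimpleGroup G)
    (hS : Syl 2 (A G a) (stabilizer G a)) (hN : N ≤ Op' 2 𝐂(A G a)) (N1 : N ≠ ⊥) (hK : K ≤ 𝐍(N))
    (hD : N ⊓ D G a b = ⊥) : False := by
  obtain ⟨s, hs, s1⟩ := h.exists_A a
  have hAC : A G a ≤ 𝐂(A G a) := Ab.le_cent (h.A_ab a)
  have hC : 𝐂(A G a) ⊴ stabilizer G a := ⟨h.cent_A_le a, le_norm_cent (stab_le_norm a)⟩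
  have hY := burnside h.ab2 (hS.mono hAC hC.le) fun g hg t ht _ => mem_cent_iff.1 hg.1 t ht
  have hYM : Op' 2 𝐂(A G a) ⊴ stabilizer G a := hC.Opi _
  have ho := not_dvd_Op' (p := 2) 𝐂(A G a)
  generalize Op' 2 𝐂(A G a) = Y at hN hY hYM ho
  have hYt : ∀ t ∈ A G a, t ≠ 1 → Y ⊴ ⊤ ⊓ 𝐂[t] := fun t ht t1 => hYM.mono
    (le_inf le_top (hY.left_le.trans (cent_le_cent1 ht))) (inf_le_right.trans (h.cent_le ht t1))
  have semi : Semiregular N K := semiregular_iff.2 fun k hk k1 y hy e =>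
    hD.le ⟨hy, h.cent_K hk k1 (hYM.le (hN hy)) e.symm⟩
  have hNC := hN.trans hY.left_le
  have hNA : IsSdprod N (A G a) (N ⊔ A G a) := .of_sup ((le_cent_comm.1 hNC).trans (cent_le_norm N))
    (eq_bot_iff.2 (hY.inf_eq.le.trans' (inf_le_inf_right _ hN)))
  obtain ⟨n, -, hn⟩ := h.exists_card a
  have h4 := h.four_le a
  have deg : ∀ χ ∈ B0 2 (⊤ : Subgroup G), χ ≠ cf1 ⊤ → (♯(A G a) * ♯K : ℝ) ≤ ‖χ 1‖ := fun χ e1 e2 => by
    have hχ := isIrr_of_mem_B0 e1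
    have h1 := (hχ.isChar.cfRes (le_top : N ≤ ⊤)).sub_constt (isIrr_cf1 N)
    obtain ⟨i, hi⟩ := Cnat_char1 h1
    obtain ⟨j, hj⟩ := Cnat_cfdot_char (hχ.isChar.cfRes (le_top : N ≤ ⊤)) (isChar_cf1 N)
    have h2 : i ≠ 0 := by
      rintro rfl
      have h2 := fun y => congr_fun (sub_eq_zero.1 ((char1_eq0 h1).1 (by simpa using hi))) y
      rcases (normalIn_top.1 (cfker_normal hχ.mem_CF)).eq_bot_or_eq_top with e | e
      · exact N1 (eq_bot_iff.2 fun y hy => e.le ((cfkerEchar hχ.isChar).2 ⟨mem_top y, by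
          rw [← cfResE χ hy, ← cfResE χ (one_mem N), h2, h2, Pi.smul_apply, Pi.smul_apply, cf1E hy,
            cf1_one]⟩))
      · exact e2 (hχ.le_cfker_iff.1 e.ge)
    rw [Pi.sub_apply, Pi.smul_apply, cf1_one, cfResE _ (one_mem N), smul_eq_mul, mul_one,
      cfdot_cfRes_left] at hi
    have h3 := Nat.le_of_dvd (Nat.pos_of_ne_zero h2) (Nat.Coprime.mul_dvd_of_dvd_of_dvd (by
      rw [h.card_K]; exact (Nat.coprime_self_sub_right (by omega)).2 (Nat.coprime_one_right _))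
      (dvd_of_free hNA hχ.isChar hi fun t ht t1 y hy => by
        rw [← mem_cent_iff.1 (hNC hy) t ht]
        exact apply_mul_eq_of_mem_B0 (k := 1) e1 (mem_top t) (by rw [pow_one, pow_two, h.sq ht])
          (hYt t ht t1) ho (hN hy))
      (dvd_of_free (.of_sup hK semi.inf_eq_bot) hχ.isChar hi fun k hk k1 y hy => by
        obtain ⟨z, -, e⟩ := Frob.exists_conj_of_fpf (hK hk) (semiregular_iff.1 semi k hk k1) hy
        rw [← e, cfunJ hχ.mem_CF (mem_top z)]))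
    rw [cfdot_cfRes_left] at hj
    rw [eq_add_of_sub_eq hi, hj]
    exact_mod_cast h3.trans (Nat.le_add_right i j)
  have hH := h.cent_le hs s1
  have hAH := hAC.trans (cent_le_cent1 hs)
  obtain ⟨U, hU, hU'⟩ := (hS.mono hAH hH).hall.exists_sdprod (hH.trans (stab_le_norm a))
  have hU2 := (piGrp_compl_singleton Nat.prime_two).1 hU'.piGrp
  have p1 : (0 : ℝ) < Nat.card G := by exact_mod_cast Nat.card_pos
  have p2 : (0 : ℝ) < ♯U := by exact_mod_cast card_pos' U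
  have p3 : (4 : ℝ) ≤ ♯(A G a) := by exact_mod_cast h4
  have hK' : (♯K : ℝ) = ♯(A G a) - 1 := by rw [h.card_K, Nat.cast_sub (by omega), Nat.cast_one]
  have c1 : ∀ (X : Set G) (i j : ℕ), X ⊆ Reg 2 𝐂[s] → i * ♯U ≤ j * X.ncard → (i : ℝ) ≤
      j * (({x : G | 2 ∣ orderOf x}.ncard : ℝ) / Nat.card G * ♯(A G a)) := fun X i j h1 h2 => by
    have h3 := card_mul_le (h.sq hs) h1 (Z := {x : G | 2 ∣ orderOf x}) fun g r hr => by
      rw [Set.mem_setOf_eq, orderOf_conj, (Commute.orderOf_mul_eq_mul_orderOf_of_coprime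
        (mem_cent1.1 (h1 hr).1).symm (by
          rw [orderOf_eq_prime (p := 2) (by rw [pow_two, h.sq hs]) s1]
          exact (Nat.Prime.coprime_iff_not_dvd Nat.prime_two).2 (h1 hr).2)),
        orderOf_eq_prime (p := 2) (by rw [pow_two, h.sq hs]) s1]
      exact dvd_mul_right _ _
    rw [← hU.card] at h3
    rw [div_mul_eq_mul_div, mul_div_assoc', le_div_iff₀ p1]
    refine le_of_mul_le_mul_right ?_ p2
    exact_mod_cast (by nlinarith [Nat.mul_le_mul_left j h3, Nat.mul_le_mul_left (Nat.card G) h2] :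
      i * Nat.card G * ♯U ≤ j * ({x : G | 2 ∣ orderOf x}.ncard * ♯(A G a)) * ♯U)
  have c2 : ♯(A G a) ^ 2 * (♯(A G a) - 1) ≤ (Invs G).ncard := by
    haveI := h.finite
    rw [h.ncard_invs a, ← h.index_stab b, ← relIndex_top_right]
    refine Nat.mul_le_mul_right _ (le_trans ?_ (relIndex_le_of_le_right (K := N ⊔ A G a) le_top
      (relIndex_pos _ _).ne'))
    have h1 := card_inf_mul_relIndex (stabilizer G b) (N ⊔ A G a)
    rw [show stabilizer G b ⊓ (N ⊔ A G a) = ⊥ from eq_bot_iff.2 fun x hx => ?_, card_bot, one_mul,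
      ← hNA.card] at h1
    · have h2 := Nat.le_of_dvd (by have := one_lt_card N1; omega) (regular_norm_dvd_pred hK semi)
      rw [h1, sq]
      exact Nat.mul_le_mul_right _ (by rw [h.card_K] at h2; omega)
    · have h2 : x ∈ D G a b := ⟨(sup_le (hN.trans hYM.le) (h.A_le a)) hx.2, hx.1⟩
      refine hD.le ⟨PiGrp.le_of_relIndex ((piGrp_compl_singleton Nat.prime_two).2 (by
        rw [Nat.card_zpowers]; exact h.odd_of_mem_D h.ne h2)) (zpowers_le.2 hx.2) hNA.normal.norm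
        (hNA.relIndex_left ▸ IsPiNum.compl_compl hS.piGrp) (mem_zpowers x), h2⟩
  have c3 := sum_B0_le (h.sq hs) (hYt s hs s1) ho
  rw [← card_mul_relIndex (cent_le_cent1 hs), ← hY.card, Nat.cast_mul, Nat.cast_mul, mul_assoc,
    mul_le_mul_iff_right₀ (by exact_mod_cast card_pos' Y)] at c3
  refine num (v := (𝐂(A G a)).relIndex 𝐂[s]) p3 ?_ ((h.ineq hs s1 (by
    rw [hK']; nlinarith) rfl deg).trans ?_) ?_ ?_
  · have : (♯(A G a) ^ 2 * (♯(A G a) - 1) : ℝ) ≤ (Invs G).ncard := by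
      rw [← hK', h.card_K]; exact_mod_cast c2
    rw [div_le_div_iff₀ (by nlinarith) (by positivity)]
    nlinarith
  · rw [hK', ← div_div]
    refine div_le_div_of_nonneg_right ?_ (by linarith)
    rw [div_le_iff₀ (by linarith), mul_assoc, mul_comm _ (♯(A G a) : ℝ)]
    exact mul_le_mul_of_nonneg_left c3 (Real.sqrt_nonneg _)
  · by_cases e : U ≤ 𝐂(A G a)
    · refine .inl ⟨by simpa using c1 U 1 1 (fun x hx => ⟨hU.right_le hx, fun e' =>
        hU2 (e'.trans (orderOf_dvd_card hx))⟩) (by simp [← Nat.card_coe_set_eq]), ?_⟩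
      exact_mod_cast relIndex_eq_one.2 (hU.sup_eq.ge.trans (sup_le hAC e))
    · obtain ⟨X, h1, h2⟩ := exists_odd_set hU hU2 e
      have h3 := h.relIndex_le hn hs s1
      have h5 := h.odd_relIndex hAH hH
      have h6 : (𝐂(A G a)).relIndex 𝐂[s] ≠ 1 := fun e' =>
        e (hU.right_le.trans (relIndex_eq_one.1 e'))
      refine .inr ⟨by simpa using c1 X 5 3 h1 h2, ?_, ?_⟩
      · exact_mod_cast (Nat.pow_le_pow_left h3 2).trans (hn ▸ sq_le_two_pow (by omega))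
      · exact_mod_cast hn ▸ Nat.pow_le_pow_right two_pos (show 3 ≤ n by omega)
  · rw [div_le_one p1]
    exact_mod_cast Set.ncard_le_card _

end Cfsg.Agent.SEA
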