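import Cfsg.Agent.Lib.SEA.Basic

/-!
# A `p`-subgroup with three fixed points centralizes an involution at each of its fixed points
-/

set_option autoImplicit false
set_option linter.unusedSectionVars false

namespace Cfsg.Agent.SEA

open Subgroup MulAction Cfsg.Agent.Coprime Cfsg.Agent.OO
open scoped Pointwise

universe u v

variable {G : Type u} {Ω : Type v} [Group G] [MulAction G Ω] [Finite G]
  {a b c : Ω} {d g k n s t u w x y : G} {H T X Y : Subgroup G} {p : ℕ}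

theorem two_lt_card (hs : s ∈ H) (ht : t ∈ H) (s1 : s ≠ 1) (t1 : t ≠ 1) (e : s ≠ t) : 2 < ♯H := by
  rw [← SetLike.coe_sort_coe, Nat.card_coe_set_eq]
  exact (Set.two_lt_ncard (Set.toFinite _)).2 ⟨1, one_mem H, s, hs, t, ht, s1.symm, t1.symm, e⟩

theorem burnside (h2 : R1.Ab2 G) (hT : Syl 2 T H)
    (h : ∀ g ∈ H ⊓ 𝐍(T), ∀ t ∈ T, t * t = 1 → t * g = g * t) : IsSdprod (Op' 2 H) T H := by
  refine Burnside_normal_complement hT fun g hg => mem_of_forall_constt_mem fun r hr _ => ?_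
  have h1 := constt_mem {r} hg
  have h3 := piElt_constt {r} g
  by_cases e : r = 2
  · exact Ab.le_cent (h2 T hT.isPGroup) (hT.mem_of_mem_norm h1.1 h1.2 (e ▸ h3))
  · refine Transfer.mem_centralizer_of_omega hT.isPGroup (h2 T hT.isPGroup) ?_ h1.2
      fun w hw hw2 => h _ h1 w hw (by rwa [← pow_two])
    exact ((Nat.Prime.coprime_iff_not_dvd Nat.prime_two).2
      (IsPiNum.not_dvd h3 Nat.prime_two (Ne.symm e))).symm

variable (Ω) in
/-- at least three fixed points -/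
def Big (X : Subgroup G) : Prop := ∀ a b : Ω, ∃ c : Ω, X ≤ stabilizer G c ∧ c ≠ a ∧ c ≠ b

theorem big_of (ha : X ≤ stabilizer G a) (hb : X ≤ stabilizer G b) (hc : X ≤ stabilizer G c)
    (hab : a ≠ b) (hac : a ≠ c) (hbc : b ≠ c) : Big Ω X := fun x y => by
  by_contra! e
  have h1 := e a ha
  have h2 := e b hb
  have h3 := e c hc
  by_cases e1 : a = x
  · exact hbc ((h2 fun e => hab (e1.trans e.symm)).trans (h3 fun e => hac (e1.trans e.symm)).symm)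
  by_cases e2 : b = x
  · exact hac ((h1 e1).trans (h3 fun e => hbc (e2.trans e.symm)).symm)
  · exact hab ((h1 e1).trans (h2 e2).symm)

theorem eq_or_eq_of_not_big (h : ¬ Big Ω X) (ha : X ≤ stabilizer G a) (hb : X ≤ stabilizer G b)
    (hab : a ≠ b) (hc : X ≤ stabilizer G c) : c = a ∨ c = b := by
  by_contra! e
  exact h (big_of ha hb hc hab e.1.symm e.2.symm)

theorem norm_le_of_not_big (h : ¬ Big Ω X) (hX : X ≤ D G a b) (hab : a ≠ b) :
    stabilizer G a ⊓ 𝐍(X) ≤ D G a b := fun g hg =>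
  ⟨hg.1, (eq_or_eq_of_not_big h (hX.trans inf_le_left) (hX.trans inf_le_right) hab
    (smul_fix_of_norm hg.2 (hX.trans inf_le_right))).resolve_left fun e =>
      hab (smul_left_cancel g ((mem_stabilizer_iff.1 hg.1).trans e.symm))⟩

/-- `X` centralizes an involution at `b` -/
def Good (X : Subgroup G) (b : Ω) : Prop := ∃ s ∈ A G b, s ≠ 1 ∧ s ∈ 𝐂(X)

theorem Good.smul (h : Good X b) (hg : g ∈ 𝐍(X)) : Good X (g • b) :=
  let ⟨_, hs, s1, e⟩ := h
  ⟨_, conj_mem_A hs g, BSW.conj_ne_one s1, conj_mem_of_norm (norm_le_norm_cent X hg) e⟩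

theorem Pre.invol_of_swap (h : Pre G Ω) (hab : a ≠ b) (h1 : n • a = b) (h2 : n • b = a) :
    ∃ v ∈ zpowers n, v * v = 1 ∧ v • a = b := by
  have h3 : n * n ∈ D G a b := mem_D.2 ⟨by rw [mul_smul, h1, h2], by rw [mul_smul, h2, h1]⟩
  obtain ⟨j, hj⟩ : Odd (orderOf (n * n)) :=
    Nat.not_even_iff_odd.1 fun e => h.odd_of_mem_D hab h3 e.two_dvd
  refine ⟨(n * n) ^ j * n, mul_mem (pow_mem (mul_mem (mem_zpowers n) (mem_zpowers n)) j)
    (mem_zpowers n), ?_, by rw [mul_smul, h1, (pow_mem h3 j).2]⟩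
  rw [← pow_orderOf_eq_one (n * n), hj, ← pow_two, ← pow_two, ← pow_mul, ← pow_succ, ← pow_mul,
    ← pow_mul, mul_comm]

namespace Hyp

variable (h : Hyp G Ω) [hp : Fact p.Prime]
include h

theorem invol_of_syl (hab : a ≠ b) (hX : Syl p X (D G a b)) :
    ∃ v ∈ 𝐍(X), v * v = 1 ∧ v • a = b := by
  obtain ⟨u, hu, e⟩ := h.exists_swap' hab
  obtain ⟨d, hd, e'⟩ := hX.exists_conj' (hX.conj_of_norm (swap_norm hu e))
  obtain ⟨v, hv, h1⟩ := h.invol_of_swap (n := d⁻¹ * u) hab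
    (by rw [mul_smul, e, (inv_mem hd).2]) (by rw [mul_smul, swap hu e, (inv_mem hd).1])
  refine ⟨v, zpowers_le.2 ?_ hv, h1⟩
  rw [← conj_eq_self_iff, ← conj_conj, e', conj_conj, inv_mul_cancel, conj_eq_of_mem (one_mem X)]

section
variable (hX : IsPGroup p X)
  (ih : ∀ Y, X < Y → IsPGroup p Y → Big Ω Y → ∀ b : Ω, Y ≤ stabilizer G b → Good Y b)
include hX ih

omit h in
theorem exists_syl_of_not (hb : X ≤ stabilizer G b) (bad : ¬ Good X b) (ha : X ≤ stabilizer G a)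
    (hab : a ≠ b) (hn : ¬ Syl p X (D G b a)) :
    ∃ Y, Syl p Y (𝐍(X) ⊓ stabilizer G b) ∧ Y ≤ D G b a ∧ ¬ Big Ω Y := by
  obtain ⟨Y, hY, h1⟩ := exists_syl_ge (le_inf (le_inf hb ha) (le_norm_self X)) hX
  have h2 := hY.le.trans inf_le_left
  have h3 : ¬ Big Ω Y := fun e => by
    obtain ⟨s, hs, s1, e'⟩ := ih Y (lt_of_le_of_ne h1 fun e => hn
      (.of_syl_norm (le_inf hb ha) (e ▸ hY))) hY.isPGroup e b (h2.trans inf_le_left)
    exact bad ⟨s, hs, s1, cent_anti h1 e'⟩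
  have h4 : Y ≤ 𝐍(X) ⊓ stabilizer G b := le_inf (hY.le.trans inf_le_right) (h2.trans inf_le_left)
  exact ⟨Y, .of_syl_norm h4 (hY.mono (le_inf h4 (le_norm_self Y)) fun g hg =>
    ⟨norm_le_of_not_big h3 h2 hab.symm ⟨hg.1.2, hg.2⟩, hg.1.1⟩), h2, h3⟩

omit h in
theorem exists_smul_of_not (hb : X ≤ stabilizer G b) (bad : ¬ Good X b) (ha : X ≤ stabilizer G a)
    (hab : a ≠ b) (hn : ¬ Syl p X (D G b a)) (hc : X ≤ stabilizer G c) (hcb : c ≠ b)
    (hn' : ¬ Syl p X (D G b c)) : ∃ g ∈ 𝐍(X) ⊓ stabilizer G b, g • a = c := by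
  obtain ⟨Y, h1, h2, h3⟩ := exists_syl_of_not hX ih hb bad ha hab hn
  obtain ⟨Z, h4, h5, h6⟩ := exists_syl_of_not hX ih hb bad hc hcb hn'
  obtain ⟨g, hg, rfl⟩ := h1.exists_conj' h4
  refine ⟨g, hg, (eq_or_eq_of_not_big h6 (h5.trans inf_le_left) (h5.trans inf_le_right) hcb.symm
    (conj_stab g a ▸ conj_mono g (h2.trans inf_le_right))).resolve_left fun e => hab ?_⟩
  exact smul_left_cancel g (e.trans (mem_stabilizer_iff.1 hg.2).symm)

theorem good_of_good (hb : X ≤ stabilizer G b) (ha : X ≤ stabilizer G a) (good : Good X a) :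
    Good X b := by
  by_contra bad
  obtain ⟨s, hs, s1, hsX⟩ := id good
  have hab : a ≠ b := by rintro rfl; exact bad good
  have hsN := cent_le_norm X hsX
  have h1 : Syl p X (D G b (s • b)) := by
    by_contra e
    obtain ⟨g, hg, e'⟩ := exists_smul_of_not hX ih hb bad ha hab (fun e => by
      obtain ⟨v, hv, v2, e'⟩ := h.invol_of_syl hab.symm e
      exact bad (swap v2 e' ▸ good.smul hv)) (smul_fix_of_norm hsN hb) (h.smul_ne hs s1 hab) e
    have e2 := (e' ▸ good.smul hg.1).smul hsN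
    exact bad (by rwa [← mul_smul, h.sq hs, one_smul] at e2)
  have h2 := Coprime.card_modEq_card_inf_centralizer hX (hb.trans (stab_le_norm b))
  rw [show A G b ⊓ 𝐂(X) = ⊥ from
    eq_bot_iff.2 fun t ht => by_contra fun t1 => bad ⟨t, ht.1, t1, ht.2⟩, card_bot] at h2
  refine h1.not_dvd (Dvd.dvd.trans ?_ (relIndex_dvd_of_le_left _ (le_cent1_iff.2 hsX)))
  rw [h.relIndex_cent_swap (h.smul_ne hs s1 hab).symm (h.sq hs) rfl]
  exact (Nat.modEq_iff_dvd' (card_pos' _)).1 h2.symm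

theorem false_of_bad (hp2 : p ≠ 2) (big : Big Ω X)
    (bad : ∀ b : Ω, X ≤ stabilizer G b → ¬ Good X b) : False := by
  have h1 : ∀ v ∈ 𝐍(X), v * v = 1 → ∀ c : Ω, X ≤ stabilizer G c → v • c = c → v = 1 :=
    fun v hv v2 c hc e => by_contra fun v1 => bad c hc ⟨v, h.mem_A.2 ⟨e, v2⟩, v1, by
      refine mem_cent_iff_conj.2 fun x hx => mul_inv_eq_one.1 (mem_bot.1 ?_)
      rw [← inf_eq_bot_of_coprime_card (coprime_of_isPGroup_ne hX (h.A_two c) hp2)]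
      refine mem_inf.2 ⟨mul_mem (conj_mem_of_norm hv hx) (inv_mem hx), ?_⟩
      rw [mul_assoc, mul_assoc, ← mul_assoc x]
      exact mul_mem (h.mem_A.2 ⟨e, v2⟩) (conj_mem_of_norm (stab_le_norm c (hc hx))
        (inv_mem (h.mem_A.2 ⟨e, v2⟩)))⟩
  have h2 : ∀ s ∈ 𝐍(X), ∀ t ∈ 𝐍(X), s ≠ 1 → t ≠ 1 → s * s = 1 → t * t = 1 → t * s = s * t → s = t :=
    fun s hs t ht s1 t1 s2 t2 e => by_contra fun e' => by
      obtain ⟨c, hc⟩ := h.ex s s2
      have h3 := h.mem_A.2 ⟨hc, s2⟩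
      refine s1 (h1 s hs s2 c (h.fix_of_odd (H := A G c ⊓ 𝐍(X)) (fun e => ?_) inf_le_left
        (two_lt_card ⟨h3, hs⟩ ⟨h.mem_A.2 ⟨h.cent_le h3 s1 (mem_cent1.2 e), t2⟩, ht⟩ s1 t1 e')
        inf_le_right) hc)
      obtain ⟨k, hk⟩ := hX.exists_card_eq
      exact hp2 ((Nat.prime_dvd_prime_iff_eq Nat.prime_two hp.out).1
        (Nat.prime_two.dvd_of_dvd_pow (hk ▸ e))).symm
  obtain ⟨T, hT⟩ := exists_syl 2 𝐍(X)
  have hTab := h.ab2 T hT.isPGroup
  have h3 := burnside h.ab2 hT fun g hg t ht t2 => by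
    by_cases t1 : t = 1
    · simp [t1]
    have h3 := conj_mem_of_norm hg.2 ht
    exact eq_mul_of_mul_inv_eq (h2 _ (hT.le h3) t (hT.le ht) (BSW.conj_ne_one t1) t1
      (BSW.conj_mul_self t2) t2 (ab_iff.1 hTab _ ht _ h3)) ▸ rfl
  have hO := not_dvd_Op' (p := 2) 𝐍(X)
  generalize Op' 2 𝐍(X) = O at h3 hO
  have hO1 : ∀ v ∈ O, v * v = 1 → v = 1 := fun v hv =>
    odd_sq_eq_one fun e => hO (e.trans (orderOf_dvd_card hv))
  have h4 : ∀ b : Ω, X ≤ stabilizer G b → 𝐍(X) ⊓ stabilizer G b ≤ O := fun b hb => by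
    refine PiGrp.le_of_relIndex ((piGrp_compl_singleton Nat.prime_two).2 fun e => ?_) inf_le_left
      h3.normal.norm (h3.relIndex_left ▸ IsPiNum.compl_compl hT.piGrp)
    obtain ⟨z, hz, z1, z2⟩ := R1.exists_invol_mem e
    exact z1 (h1 z hz.1 z2 b hb hz.2)
  have h5 : ∀ v ∈ 𝐍(X), v ≠ 1 → v * v = 1 → ∃ o ∈ O, ∃ z ∈ T, z ≠ 1 ∧ z * z = 1 ∧ o * z = v :=
    fun v hv v1 v2 => by
      obtain ⟨o, ho, z, hz, rfl⟩ := h3.mem_iff.1 hv
      refine ⟨o, ho, z, hz, fun e => v1 (hO1 _ (by simpa [e] using ho) v2), mem_bot.1 ?_, rfl⟩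
      rw [← h3.inf_eq]
      refine mem_inf.2 ⟨?_, mul_mem hz hz⟩
      rw [show z * z = (o * (z * o * z⁻¹))⁻¹ * (o * z * (o * z)) by group, v2, mul_one]
      exact inv_mem (mul_mem ho (h3.normal.conj_mem (hT.le hz) ho))
  obtain ⟨b0⟩ := h.nontriv.to_nonempty
  obtain ⟨b, hb, -⟩ := big b0 b0
  obtain ⟨z, hz, z1, z2⟩ : ∃ z ∈ T, z ≠ 1 ∧ z * z = 1 := by
    by_contra e
    have h6 : ∀ a b : Ω, a ≠ b → ¬ Syl p X (D G b a) := fun a b hab e' => by
      obtain ⟨v, hv, v2, e'⟩ := h.invol_of_syl hab.symm e'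
      obtain ⟨-, -, z, hz, z1, z2, -⟩ := h5 v hv (swap_ne_one hab.symm e') v2
      exact e ⟨z, hz, z1, z2⟩
    obtain ⟨a, ha, hab, -⟩ := big b b
    obtain ⟨c, hc, hca, hcb⟩ := big a b
    obtain ⟨g, hg, e1⟩ := exists_smul_of_not hX ih hc (bad c hc) ha hca.symm (h6 _ _ hca.symm)
      hb hcb.symm (h6 _ _ hcb.symm)
    have h7 : g • b ≠ b := fun e => hab (smul_left_cancel g (e1.trans e.symm))
    obtain ⟨k, hk, e2⟩ := exists_smul_of_not hX ih hb (bad b hb) (smul_fix_of_norm hg.1 hb) h7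
      (h6 _ _ h7) ha hab (h6 _ _ hab)
    obtain ⟨v, hv, v2, e3⟩ := h.invol_of_swap (n := k * g) hab (by rw [mul_smul, e1, hk.2])
      (by rw [mul_smul, e2])
    obtain ⟨-, -, z, hz, z1, z2, -⟩ := h5 v (zpowers_le.2 (mul_mem hk.1 hg.1) hv)
      (swap_ne_one hab e3) v2
    exact e ⟨z, hz, z1, z2⟩
  have h6 : ∀ a b : Ω, a ≠ b → Syl p X (D G b a) → ∃ o ∈ O, o • z • b = a := fun a b hab e => by
    obtain ⟨v, hv, v2, e'⟩ := h.invol_of_syl hab.symm e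
    obtain ⟨o, ho, w, hw, w1, w2, rfl⟩ := h5 v hv (swap_ne_one hab.symm e') v2
    rw [h2 w (hT.le hw) z (hT.le hz) w1 z1 w2 z2 (ab_iff.1 hTab _ hz _ hw), mul_smul] at e'
    exact ⟨o, ho, e'⟩
  have h7 : ∀ a : Ω, X ≤ stabilizer G a → ∀ o ∈ O, o • a ≠ a → ¬ Syl p X (D G a (o • a)) :=
    fun a ha o ho e e' => by
      obtain ⟨o', ho', e1⟩ := h6 _ _ e e'
      refine z1 (hO1 z ((O.mul_mem_cancel_left (mul_mem (inv_mem ho) ho')).1 (h4 a ha ⟨mul_mem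
        (h3.left_le (mul_mem (inv_mem ho) ho')) (hT.le hz), mem_stabilizer_iff.2 ?_⟩)) z2)
      rw [mul_smul, mul_smul, e1, inv_smul_smul]
  have h8 : ∀ b : Ω, X ≤ stabilizer G b → ∀ o ∈ O, o • b = b := fun b hb o ho => by
    by_contra e
    have ha := smul_fix_of_norm (h3.left_le ho) hb
    have e1 : o • o • b ≠ o • b := fun e' => e (smul_left_cancel o e')
    have e2 := h7 _ ha _ (inv_mem ho)
    rw [inv_smul_smul] at e2
    obtain ⟨k, hk, e3⟩ := exists_smul_of_not hX ih ha (bad _ ha)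
      (smul_fix_of_norm (h3.left_le ho) ha) e1 (h7 _ ha o ho e1) hb (Ne.symm e) (e2 (Ne.symm e))
    obtain ⟨v, hv, v2, e4⟩ := h.invol_of_swap (n := k * o) (Ne.symm e) (by rw [mul_smul, hk.2])
      (by rw [mul_smul, e3])
    exact swap_ne_one (Ne.symm e) e4 (hO1 v (zpowers_le.2 (mul_mem (h4 _ ha hk) ho) hv) v2)
  have h9 : ∀ a : Ω, a ≠ b → a ≠ z • b → ¬ Syl p X (D G b a) := fun a e1 e2 e => by
    obtain ⟨o, ho, e'⟩ := h6 a b e1 e
    exact e2 (e'.symm.trans (h8 _ (smul_fix_of_norm (hT.le hz) hb) o ho))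
  obtain ⟨a, ha, e1, e2⟩ := big b (z • b)
  have e3 : z • a ≠ b := fun e => e2 (swap z2 e).symm
  obtain ⟨g, hg, e4⟩ := exists_smul_of_not hX ih hb (bad b hb) ha e1 (h9 a e1 e2)
    (smul_fix_of_norm (hT.le hz) ha) e3 (h9 _ e3 fun e => e1 (smul_left_cancel z e))
  exact z1 (h1 z (hT.le hz) z2 a ha (e4.symm.trans (h8 a ha g (h4 b hb hg))))

end

theorem good (hp2 : p ≠ 2) (X : Subgroup G) : IsPGroup p X → Big Ω X →
    ∀ b : Ω, X ≤ stabilizer G b → Good X b := by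
  induction X using WellFoundedGT.induction with
  | ind X ih =>
  intro hX big b hb
  by_contra e
  exact h.false_of_bad hX ih hp2 big fun a ha good => e (h.good_of_good hX ih hb ha good)

end Hyp

end Cfsg.Agent.SEA
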