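import Cfsg.Agent.Lib.SEA.Blk0

/-!
# `A a` is regular on the remaining points
-/

set_option autoImplicit false
set_option linter.unusedSectionVars false

namespace Cfsg.Agent.SEA

open Subgroup MulAction Cfsg.Agent.Coprime Cfsg.Agent.OO
open scoped Pointwise commutatorElement

universe u

variable {G Ω : Type u} [Group G] [MulAction G Ω] [Finite G]
  {a b c : Ω} {d g k r s t u w x y : G} {H K N P S : Subgroup G} {p : ℕ}

variable (G Ω) in
/-- `A a` is transitive on the points other than `a` -/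
def Tr : Prop := ∀ a b c : Ω, a ≠ b → a ≠ c → ∃ t ∈ A G a, t • b = c

/-- the induction hypothesis -/
def IH (n : ℕ) : Prop := ∀ (G Ω : Type u) [Group G] [MulAction G Ω] [Finite G],
  Nat.card G < n → Hyp G Ω → Tr G Ω

theorem Pre.sub (h : Pre G Ω) (ih : IH.{u} (Nat.card G)) (hH : H ≠ ⊤) (h4 : 2 < ♯(A G a ⊓ H))
    (hab : a ≠ b) (ht : t ∈ A G b ⊓ H) (t1 : t ≠ 1) (hac : a ≠ c) (hr : r ∈ A G c ⊓ H)
    (r1 : r ≠ 1) : ∃ t ∈ A G a, t • b = c := by
  obtain ⟨s, hs, s1⟩ : ∃ s ∈ A G a ⊓ H, s ≠ 1 := exists_mem_ne_one fun e => by simp [e] at h4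
  have key : ∀ c : Ω, ∀ t ∈ A G c ⊓ H, t ≠ 1 → c ∈ orbit H a := fun c t ht t1 => by
    by_cases e : a = c
    · exact e ▸ mem_orbit_self a
    obtain ⟨w, -, h1, -, h2⟩ := h.exists_swap e hs.1 s1 ht.1 t1
    exact ⟨⟨w, h2 H hs.2 ht.2⟩, h1⟩
  have hp : Pre H (orbit H a) := ⟨fun t e => by
      by_cases t1 : t = 1
      · exact ⟨⟨a, mem_orbit_self a⟩, by rw [t1, one_smul]⟩
      obtain ⟨c, hc⟩ := h.ex t (congrArg Subtype.val e)
      exact ⟨⟨c, key c t ⟨h.mem_A.2 ⟨hc, congrArg Subtype.val e⟩, t.2⟩ fun e => t1 (Subtype.ext e)⟩,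
        Subtype.ext hc⟩,
    fun t1 t2 e e' => Subtype.ext (h.uniq (fun e => t1 (Subtype.ext e)) (congrArg Subtype.val t2)
      (congrArg Subtype.val e) (congrArg Subtype.val e')),
    fun s2 t2 e e' => Subtype.ext (h.comm (congrArg Subtype.val s2) (congrArg Subtype.val t2)
      (congrArg Subtype.val e) (congrArg Subtype.val e')),
    fun P hP => ab_iff.2 fun x hx y hy => Subtype.ext (ab_iff.1 (h.ab2 _ (hP.map H.subtype))
      _ (mem_map_of_mem _ hx) _ (mem_map_of_mem _ hy))⟩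
  obtain ⟨z, hz, e⟩ := ih H (orbit H a) (card_top (G := G) ▸ card_lt_of_lt hH.lt_top) ⟨hp,
    exists_smul_eq H, ⟨⟨a, mem_orbit_self a⟩, ⟨b, key b t ht t1⟩, mt (congrArg Subtype.val) hab⟩,
    fun c => by
      obtain ⟨g, rfl⟩ := exists_smul_eq H (⟨a, mem_orbit_self a⟩ : orbit H a) c
      rw [← conj_A, card_conj, ← card_map_of_injective H.subtype_injective]
      exact h4.trans_le (card_le_of_le fun x hx => ⟨⟨x, hx.2⟩, hp.mem_A.2
        ⟨Subtype.ext (h.fix hx.1), Subtype.ext (h.sq hx.1)⟩, rfl⟩)⟩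
    ⟨a, mem_orbit_self a⟩ ⟨b, key b t ht t1⟩ ⟨c, key c r hr r1⟩ (mt (congrArg Subtype.val) hab)
    (mt (congrArg Subtype.val) hac)
  exact ⟨z, h.mem_A.2 ⟨congrArg Subtype.val (hp.fix hz), congrArg Subtype.val (hp.sq hz)⟩,
    congrArg Subtype.val e⟩

theorem Hyp.tr_of_ker (h : Hyp G Ω) (ih : IH.{u} (Nat.card G)) (hk : (toPermHom G Ω).ker ≠ ⊥) :
    Tr G Ω := by
  haveI := h.finite
  let f := (toPermHom G Ω).rangeRestrict
  have hf := (toPermHom G Ω).rangeRestrict_surjective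
  obtain ⟨a, b, hab⟩ := h.nontriv
  have lift : ∀ z : (toPermHom G Ω).range, z * z = 1 → ∃ t : G, t * t = 1 ∧ f t = z := fun z e => by
    obtain ⟨g, rfl⟩ := hf z
    have h1 : ∀ c : Ω, (g * g) • c = c := fun c => DFunLike.congr_fun (congrArg Subtype.val
      ((map_mul f g g).trans e)) c
    obtain ⟨j, hj⟩ : Odd (orderOf (g * g)) :=
      Nat.not_even_iff_odd.1 fun e => h.odd_of_mem_D hab ⟨h1 a, h1 b⟩ e.two_dvd
    refine ⟨(g * g) ^ j * g, ?_, by rw [map_mul, map_pow, map_mul, e, one_pow, one_mul]⟩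
    rw [← pow_orderOf_eq_one (g * g), hj, ← pow_two, ← pow_two, ← pow_mul, ← pow_succ, ← pow_mul,
      ← pow_mul, mul_comm]
  have hp : Pre (toPermHom G Ω).range Ω := ⟨fun z e => by
      obtain ⟨t, t2, rfl⟩ := lift z e
      exact h.ex t t2,
    fun {z _ _} z1 e e1 e2 => by
      obtain ⟨t, t2, rfl⟩ := lift z e
      exact h.uniq (fun e => z1 (by rw [e, map_one])) t2 e1 e2,
    fun {y z _} e e' e1 e2 => by
      obtain ⟨s, s2, rfl⟩ := lift y e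
      obtain ⟨t, t2, rfl⟩ := lift z e'
      rw [← map_mul, h.comm s2 t2 e1 e2, map_mul],
    fun P hP => by
      obtain ⟨S, hS⟩ := exists_syl 2 (P.comap f)
      have h1 := (hS.hall.map f).syl
      rw [map_comap_eq_self_of_surjective hf] at h1
      exact h1.eq_self hP ▸ ab_map (h.ab2 S hS.isPGroup) f⟩
  intro a b c hab hac
  obtain ⟨z, hz, e⟩ := ih _ Ω (by
    rw [← index_ker, ← card_mul_index (toPermHom G Ω).ker]
    exact lt_mul_of_one_lt_left (Nat.pos_of_ne_zero index_ne_zero_of_finite) (one_lt_card hk))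
    ⟨hp, fun a b => let ⟨g, e⟩ := h.trans a b; ⟨f g, e⟩, h.nontriv, fun a => by
      haveI := h.nontriv
      obtain ⟨b, e⟩ := exists_ne a
      obtain ⟨s, hs, t, ht, s1, t1, e'⟩ := h.exists_two a
      have key : ∀ s ∈ A G a, s ≠ 1 → f s ∈ A _ a ∧ f s ≠ 1 := fun s hs s1 =>
        ⟨hp.mem_A.2 ⟨h.fix hs, by rw [← map_mul, h.sq hs, map_one]⟩, fun e1 =>
          h.smul_ne hs s1 e.symm (DFunLike.congr_fun (congrArg Subtype.val e1) b)⟩
      exact two_lt_card (key s hs s1).1 (key t ht t1).1 (key s hs s1).2 (key t ht t1).2 fun e1 =>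
        (key _ (mul_mem (inv_mem hs) ht) (mt inv_mul_eq_one.1 e')).2 (by
          rw [map_mul, map_inv, e1, inv_mul_cancel])⟩ a b c hab hac
  obtain ⟨t, t2, rfl⟩ := lift z (hp.sq hz)
  exact ⟨t, h.mem_A.2 ⟨hp.fix hz, t2⟩, e⟩

theorem Hyp.burnside_cent (h : Hyp G Ω) (hS : Syl 2 S (stabilizer G a)) :
    IsSdprod (Op' 2 𝐂(A G a)) S 𝐂(A G a) :=
  burnside h.ab2 (hS.mono (h.syl_le_cent hS (h.A_le a) le_rfl) (h.cent_A_le a))
    fun _ hg t ht t2 => mem_cent_iff.1 hg.1 t (h.mem_A.2 ⟨hS.le ht, t2⟩)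

namespace Fr

variable (h : Fr G a b u K) (hG : IsSimpleGroup G) (ih : IH.{u} (Nat.card G))
include h hG

theorem eq_bot (hN : N ≤ stabilizer G a) (hn : ⊤ ≤ 𝐍(N)) : N = ⊥ :=
  (normalIn_top.1 ⟨le_top, hn⟩).eq_bot_or_eq_top.resolve_right fun e =>
    h.ne (mem_stabilizer_iff.1 (hN (e.ge (mem_top u))) ▸ h.ua)

include ih

theorem syl_W [Fact p.Prime] (hP : Syl p P (D G a b ⊓ 𝐂(A G a))) (h1 : P ≠ ⊥) :
    Syl p P 𝐂(A G a) ∧ Syl 2 (A G a) (stabilizer G a) := by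
  obtain ⟨S, hS⟩ := exists_syl 2 (stabilizer G a)
  have hY := h.burnside_cent hS
  have hAC : A G a ≤ 𝐂(A G a) := Ab.le_cent (h.A_ab a)
  have hC := h.cent_A_le a
  have h2 : A G a ≤ 𝐂(P) := le_cent_comm.1 (hP.le.trans inf_le_right)
  have h3 : A G b ≤ 𝐂(P) := le_cent_comm.1 (hP.le.trans ((h.W_comm h.ne).le.trans inf_le_right))
  have h4 : (D G a b ⊓ 𝐂(A G a)) ⊓ 𝐍(P) ≤ 𝐂(A G a) ⊓ 𝐍(P) := inf_le_inf_right _ inf_le_right
  have h5 : 𝐂(A G a) ⊓ 𝐍(P) ≤ A G a ⊔ (D G a b ⊓ 𝐂(A G a)) ⊓ 𝐍(P) := fun g hg => by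
    obtain ⟨t, ht, t1⟩ := h.exists_A b
    obtain ⟨z, hz, e⟩ := h.sub ih (H := 𝐂(P)) (fun e => h1 (h.eq_bot hG
      (hP.le.trans (inf_le_left.trans inf_le_left)) (e.ge.trans (cent_le_norm P))))
      (by rw [inf_eq_left.2 h2]; exact h.four a) h.ne ⟨ht, h3 ht⟩ t1 (c := g • b)
      (fun e => h.ne (smul_left_cancel g ((mem_stabilizer_iff.1 (hC hg.1)).trans e)))
      ⟨conj_mem_A ht g, conj_mem_of_norm (norm_le_norm_cent P hg.2) (h3 ht)⟩ (BSW.conj_ne_one t1)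
    rw [← mul_inv_cancel_left z g]
    exact mul_mem_sup hz (mem_inf.2 ⟨mem_inf.2 ⟨mem_D.2 ⟨mul_mem (inv_mem (h.A_le a hz)) (hC hg.1),
      by rw [mul_smul, ← e, inv_smul_smul]⟩, mul_mem (inv_mem (hAC hz)) hg.1⟩,
      mul_mem (inv_mem (cent_le_norm P (h2 hz))) hg.2⟩)
  have h6 := (piGrp_compl_singleton Nat.prime_two).2 (h.odd_D h.ne)
  have h7 : Syl p P 𝐂(A G a) := .of_syl_norm (hP.le.trans inf_le_right) (hP.syl_norm.trans_hall
    ((IsSdprod.of_normal ((h.A_normal a).mono (le_inf hAC (h2.trans (cent_le_norm P)))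
      (inf_le_left.trans hC)) h4 h5 (eq_bot_iff.2 fun t ht => by_contra fun t1 =>
        h.smul_ne ht.1 t1 h.ne ht.2.1.1.2)).hall_right (by
          rw [compl_compl]; exact isPGroup_iff_piGrp.1 (h.A_two a))
      (h6.of_le (inf_le_left.trans inf_le_left)))
    (mem_of_isPGroup_of_piGrp hP.isPGroup h1 (h6.of_le (hP.le.trans inf_le_left))))
  have h8 : D G a b ⊓ 𝐂(A G a) ≤ Op' 2 𝐂(A G a) := PiGrp.le_of_relIndex (h6.of_le inf_le_left)
    inf_le_right hY.normal.norm (hY.relIndex_left ▸ IsPiNum.compl_compl hS.piGrp)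
  have h9 := h.A_le_syl hS (h.A_le a) le_rfl
  refine ⟨h7, (IsSdprod.of_normal hY.normal hAC ?_ (eq_bot_iff.2 (hY.inf_eq.le.trans'
    (inf_le_inf_left _ h9)))).eq_of_right_le hY h9 ▸ hS⟩
  exact ((h7.mono (hP.le.trans h8) hY.left_le).frattini hY.normal).sup_eq.ge.trans (sup_le
    le_sup_left (h5.trans (sup_le le_sup_right ((inf_le_left.trans h8).trans le_sup_left))))

theorem syl : Syl 2 (A G a) (stabilizer G a) := by
  by_contra hn
  have hW : D G a b ⊓ 𝐂(A G a) = ⊥ := by_contra fun e => by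
    obtain ⟨p, hp, hd⟩ := Nat.exists_prime_and_dvd (one_lt_card e).ne'
    haveI := Fact.mk hp
    obtain ⟨P, hP⟩ := exists_syl p (D G a b ⊓ 𝐂(A G a))
    exact hn (h.syl_W hG ih hP (hP.ne_bot hd)).2
  obtain ⟨S, hS⟩ := exists_syl 2 (stabilizer G a)
  have hY := h.burnside_cent hS
  have hQ := h.sdprod h.ne hW
  obtain ⟨y, hy, e⟩ := SetLike.not_le_iff_exists.1 fun e =>
    hn (le_antisymm e (h.A_le_syl hS (h.A_le a) le_rfl) ▸ hS)
  obtain ⟨_, ⟨i, rfl⟩, s1, s2⟩ := R1.exists_invol_mem (dvd_card_of_isPGroup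
    (hS.isPGroup.to_le (zpowers_le.2 (mul_mem hy hy)))
    (zpowers_ne_bot.2 fun e' => e (h.mem_A.2 ⟨hS.le hy, e'⟩)))
  simp only [(Commute.refl y).mul_zpow] at s1 s2
  have hx := hY.right_le (zpow_mem hy i)
  have h2 := hS.piGrp.piElt (zpow_mem hy i)
  generalize y ^ i = x at s1 s2 hx h2
  have hs := h.mem_A.2 ⟨hQ.left_le (mul_mem hx hx), s2⟩
  refine h.false_of_sq hW hs s1 (fun g hg t ht t1 e1 hg' => ?_) hx rfl
  obtain ⟨y, hy, d, hd, rfl⟩ := hQ.mem_iff.1 (h.cent_le hs s1 hg)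
  refine mul_mem hy (mem_of_forall_constt_mem fun p hp _ => by_contra fun d1 => ?_)
  haveI := Fact.mk hp
  have h3 := constt_mem {p} ((mul_mem_cancel_left (cent_le_cent1 hs hy)).1 hg)
  have h4 := constt_mem {p} ((mul_mem_cancel_left (cent_le_cent1 ht hy)).1 hg')
  have h5 := constt_mem {p} hd
  have h6 := piElt_constt {p} d
  generalize constt {p} d = d at d1 h3 h4 h5 h6
  have h7 := isPGroup_zpowers_iff.2 h6
  have hp2 : p ≠ 2 := by
    rintro rfl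
    exact h.odd_of_mem_D h.ne h5 (Nat.card_zpowers d ▸ dvd_card_of_isPGroup h7
      (zpowers_ne_bot.2 fun e => d1 (e ▸ one_mem _)))
  obtain ⟨r, hr, r1, h8⟩ := h.good_elt hp h6 h.ne (h.smul_ne' hs h.ne) (h.smul_ne hs s1 h.ne).symm h5
    (by rw [← mul_smul, mem_cent1.1 h3, mul_smul, h5.2]) h5.2
  have h9 : 𝐂(A G a) ⊓ 𝐂(zpowers d) ≤ A G a := fun y hy => by
    rw [cent_zpowers] at hy
    obtain ⟨z, hz, e⟩ := h.sub ih (H := 𝐂[d]) (fun e => d1 (zpowers_le.1 ((h.eq_bot hG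
      (zpowers_le.2 h5.1) ((e.ge.trans (cent_zpowers d).ge).trans (cent_le_norm _))).le.trans bot_le)))
      (two_lt_card ⟨hs, mem_cent1_comm.1 h3⟩ ⟨ht, mem_cent1_comm.1 h4⟩ s1 t1 e1.symm) h.ne ⟨hr, h8⟩ r1
      (c := y • b) (fun e => h.ne (smul_left_cancel y ((hQ.left_le hy.1).trans e)))
      (mem_inf.2 ⟨conj_mem_A hr y, mul_mem (mul_mem hy.2 h8) (inv_mem hy.2)⟩) (BSW.conj_ne_one r1)
    rwa [← inv_mul_eq_one.1 (hW.le (mem_inf.2 ⟨mem_D.2 ⟨mul_mem (inv_mem (h.A_le a hz))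
      (hQ.left_le hy.1), by rw [mul_smul, ← e, inv_smul_smul]⟩,
      mul_mem (inv_mem (Ab.le_cent (h.A_ab a) hz)) hy.1⟩))]
  have hn := (zpowers_le.2 h5.1).trans hQ.normal.norm
  obtain ⟨T, hT, hT'⟩ := coprime_Hall_exists {2} hn (coprime_of_isPGroup h7
    ((piGrp_compl_singleton hp).2 fun e => hp2 ((isPGroup_iff_piGrp.1 ((h.A_two a).to_le h9)) p hp
      ((Coprime.card_modEq_card_inf_centralizer h7 hn).dvd_iff dvd_rfl |>.1 e)))).symm
    (hY.sol (Feit_Thompson (Nat.not_even_iff_odd.1 fun e => not_dvd_Op' _ e.two_dvd)) hS.sol)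
  obtain ⟨c, hc, e2⟩ := hT.syl.exists_conj_le (zpowers_le.2 hx) (isPGroup_zpowers_iff.2 h2)
  have e3 : c * x * c⁻¹ * (c * x * c⁻¹) = x * x := by
    rw [conj_mul, mem_cent_iff_conj.1 hc _ hs]
  have e4 := e2 (conj_mem_conj (mem_zpowers x))
  generalize c * x * c⁻¹ = z at e3 e4
  have e5 := conj_mem_of_norm (zpowers_le.1 hT') e4
  have hz := hQ.left_le (hT.le e4)
  obtain ⟨n, hn', e6⟩ := exists_cent_coset_eq (zpowers_le.2 (stab_le_norm a h5.1))
    (coprime_of_isPGroup_ne h7 (h.A_two a) hp2).symm (.inl (sol_of_ab (h.A_ab a)))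
    (stab_le_norm a hz) (by
      rw [quo_zpowers (stab_le_norm a h5.1), cent_zpowers, mem_cent1_comm, mem_cent1_iff_conj,
        ← coset_conj (stab_le_norm a h5.1) (stab_le_norm a hz), eq_comm,
        coset_eq_iff (stab_le_norm a hz) (stab_le_norm a (hQ.left_le (hT.le e5)))]
      refine h.mem_A.2 ⟨mul_mem (inv_mem hz) (hQ.left_le (hT.le e5)), ?_⟩
      rw [mul_assoc, ← mul_assoc _ z⁻¹, ab_iff.1 (h.ab2 T hT.syl.isPGroup) _ e5 _ (inv_mem e4),
        mul_assoc, conj_mul, ← mul_assoc, ← mul_inv_rev, e3, mem_cent1_iff_conj.1 h3,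
        inv_mul_cancel])
  exact s1 (e3.symm.trans (h.sq ((mul_mem_cancel_right hn').1
    (h9 ⟨mul_mem (hT.le e4) (Ab.le_cent (h.A_ab a) hn'), e6⟩))))

theorem trans_A (hac : a ≠ c) : ∃ t ∈ A G a, t • b = c := by
  have hS := h.syl hG ih
  have hY := h.burnside_cent hS
  by_cases e : Op' 2 𝐂(A G a) = ⊥
  · exact hY.right_eq_iff.2 e ▸ h.cent_trans h.ne hac
  have hC : 𝐂(A G a) ⊴ stabilizer G a := ⟨h.cent_A_le a, le_norm_cent (stab_le_norm a)⟩
  obtain ⟨N, h1, h2, h3, p, hp, h4⟩ := exists_norm_abelem (Feit_Thompson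
    (Nat.not_even_iff_odd.1 fun e => not_dvd_Op' _ e.two_dvd)) e (hC.Opi _).norm
  haveI := Fact.mk hp
  refine (h.false_of_normal hG hS h1 h3 ((h.K_le.trans inf_le_left).trans h2)
    (by_contra fun e' => h3 ?_)).elim
  obtain ⟨P, hP, h5⟩ := exists_syl_ge (le_inf inf_le_right (inf_le_left.trans
    (h1.trans hY.left_le))) ((abelem_isPGroup h4).to_le (inf_le_left : N ⊓ D G a b ≤ N))
  have h6 := ((h.syl_W hG ih hP fun e => e' (eq_bot_iff.2 (h5.trans e.le))).1.le_of_normal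
    ⟨h1.trans hY.left_le, hC.le.trans h2⟩ (abelem_isPGroup h4)).trans (hP.le.trans inf_le_left)
  refine eq_bot_iff.2 (le_trans (fun x hx => Equiv.ext fun c => ?_)
    (h.eq_bot hG (N := (toPermHom G Ω).ker) (fun g hg => DFunLike.congr_fun hg a)
      (normalIn_top.2 inferInstance).norm).le)
  by_cases e : a = c
  · exact e ▸ (h6 hx).1
  obtain ⟨g, hg, rfl⟩ := h.two_trans h.ne e
  exact smul_fix_of_norm (h2 hg) (h6.trans inf_le_right) hx

end Fr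

theorem ih (n : ℕ) : IH.{u} n := by
  induction n with
  | zero => exact fun _ _ _ _ _ h => (Nat.not_lt_zero _ h).elim
  | succ n ih =>
  intro G Ω _ _ _ hn h
  replace ih : IH.{u} (Nat.card G) := fun X Y _ _ _ e => ih X Y (by omega)
  by_cases hk : (toPermHom G Ω).ker = ⊥
  swap
  · exact h.tr_of_ker ih hk
  intro a b c hab hac
  obtain ⟨u, hu, e⟩ := h.exists_swap' hab
  obtain ⟨K, hK⟩ := h.exists_fr hab hu e
  by_cases hG : IsSimpleGroup G
  · exact hK.trans_A hG ih hac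
  haveI : Nontrivial G := ⟨⟨u, 1, swap_ne_one hab e⟩⟩
  obtain ⟨N, hN, h1⟩ : ∃ N : Subgroup G, N.Normal ∧ N ≠ ⊥ ∧ N ≠ ⊤ := by
    by_contra! e
    exact hG ⟨fun N hN => or_iff_not_imp_left.2 (e N hN)⟩
  obtain ⟨z, hz, z1, z2⟩ := R1.exists_invol_mem (H := N) (by_contra fun e => h1.1 (eq_bot_iff.2
    (hk.le.trans' fun x hx => Equiv.ext fun c => h.fix_of_odd e le_rfl (h.four c)
      (le_top.trans (normalIn_top.2 hN).norm) hx)))
  obtain ⟨d, hd⟩ := h.ex z z2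
  have key : ∀ c : Ω, A G c ≤ N := fun c t ht => by
    by_cases t1 : t = 1
    · exact t1 ▸ one_mem N
    obtain ⟨g, -, rfl⟩ := (h.mem_invs (h.mem_A.2 ⟨hd, z2⟩) z1 t).1 ⟨t1, h.sq ht⟩
    exact hN.conj_mem z hz g
  obtain ⟨t, ht, t1⟩ := h.exists_A b
  obtain ⟨r, hr, r1⟩ := h.exists_A c
  exact h.sub ih h1.2 (by rw [inf_eq_left.2 (key a)]; exact h.four a) hab ⟨ht, key b ht⟩ t1 hac
    ⟨hr, key c hr⟩ r1

theorem Hyp.tr (h : Hyp G Ω) : Tr G Ω := ih _ G Ω (Nat.lt_succ_self _) h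

end Cfsg.Agent.SEA
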