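import Cfsg.Agent.Lib.SEA.Pair

/-!
# A degree estimate for a configuration of virtual characters vanishing on elements of odd order
-/

set_option autoImplicit false
set_option linter.unusedSectionVars false

namespace Cfsg.Agent.SEA

open Subgroup MulAction Cfsg.Agent.OO Cfsg.Agent.ODD
open scoped Pointwise ComplexConjugate

universe u v

variable {G : Type u} {Ω : Type v} [Group G] [MulAction G Ω] [Finite G]
  {a : Ω} {s : G} {H : Subgroup G} {β γ δ Y Y' Z : G → ℂ}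

theorem invSum_sub (φ ψ : G → ℂ) : invSum (φ - ψ) = invSum φ - invSum ψ := by
  simp only [invSum, Pi.sub_apply, Finset.sum_sub_distrib]

theorem exists_dirr_sub (hβ : β ∈ ZIrr H) (h1 : β 1 = 0) (h2 : ⟪β, β⟫[H] = 2) (hγ : γ ∈ ZIrr H)
    (h : ⟪γ, β⟫[H] = 1) :
    ∃ Y Y', IsDirr H Y ∧ IsDirr H Y' ∧ ⟪Y, Y'⟫[H] = 0 ∧ β = Y - Y' ∧ 1 ≤ (⟪γ, Y⟫[H]).re := by
  obtain ⟨χ, ξ, hχ, hξ, e, rfl⟩ := vchar_norm2 hβ h1 (cfnorm_eq_of_cfdot (by simpa using h2))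
  obtain ⟨n, hn⟩ := Cint_cfdot_vchar_irr hγ hχ
  rw [cfdotBr, hn] at h
  by_cases h3 : 1 ≤ n
  · exact ⟨χ, ξ, hχ.isDirr, hξ.isDirr, cfdot_irr_ne hχ hξ e, rfl, by rw [hn]; exact_mod_cast h3⟩
  · refine ⟨-ξ, -χ, hξ.isDirr.neg, hχ.isDirr.neg, by
      rw [cfdotNl, cfdotNr, cfdot_irr_ne hξ hχ e.symm, neg_neg], by abel, ?_⟩
    rw [cfdotNr, show -⟪γ, ξ⟫[H] = ((1 - n : ℤ) : ℂ) by push_cast; linear_combination h]
    exact_mod_cast (by omega : 1 ≤ 1 - n)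

theorem cfdot_eq_zero_of_sub (hδ : δ ∈ ZIrr H) (h1 : δ 1 = 0) (h2 : cfnorm H δ ≤ 2)
    (hY : IsDirr H Y) (hY' : IsDirr H Y') (h0 : ⟪Y, Y'⟫[H] = 0) (e : (Y - Y') 1 = 0)
    (h : ⟪δ, Y - Y'⟫[H] = 0) : ⟪δ, Y⟫[H] = 0 := by
  by_contra h3
  rw [cfdotBr, sub_eq_zero] at h
  rw [Pi.sub_apply, sub_eq_zero] at e
  have h4 : cfnorm H (Y + Y') = 2 := by rw [cfnormDd h0, hY.cfnorm, hY'.cfnorm]; norm_num
  have h5 := (Cint_cfdot_vchar hδ hY.vchar).one_le_norm h3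
  have h6 := congr_fun (cfCauchySchwarz_eq (vchar_mem_CF hδ) (add_mem hY.mem_CF hY'.mem_CF)
    (fun e => by simp [e, cfnorm0] at h4) (by
      rw [h4, cfdotDr, ← h, ← two_mul, norm_mul, Complex.norm_two]; nlinarith)) 1
  rw [h1, Pi.smul_apply, Pi.add_apply, ← e, cfdotDr, ← h, cfdot_self, h4] at h6
  simp [h3, hY.one_ne_zero, ← two_mul] at h6

theorem cfdot_eq_zero_of_dirr (hY : IsDirr H Y) (hY' : IsDirr H Y') (h0 : ⟪Y, Y'⟫[H] = 0)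
    (hZ : IsDirr H Z) (h : ⟪Y - Y', Z⟫[H] = 0) : ⟪Y, Z⟫[H] = 0 := by
  by_contra h3
  rw [cfdotBl, sub_eq_zero] at h
  rcases hY'.eq_or_eq_neg hZ (h ▸ h3) with rfl | rfl
  · exact h3 h0
  · exact h3 (neg_eq_zero.1 (cfdotNr Y Z ▸ h0))

theorem card_le_norm_sum {ι : Type*} {N : Finset ι} (hN : N.Nonempty) {t : ι → ℂ} {r : ℂ}
    (hr : r ≠ 0) (ht : ∀ i ∈ N, 1 ≤ ‖t i‖)
    (h : (∑ i ∈ N, t i) * ∑ i ∈ N, (t i + r) ^ 2 / t i = (∑ i ∈ N, (t i + r)) ^ 2) :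
    (N.card : ℝ) ≤ ‖∑ i ∈ N, t i‖ := by
  rw [Finset.sum_congr rfl (f := fun i => (t i + r) ^ 2 / t i)
    (g := fun i => t i + 2 * r + r ^ 2 * (t i)⁻¹) fun i hi => by
    have : t i ≠ 0 := fun e => by simpa [e] using (ht i hi).trans_lt' one_pos
    field_simp; ring] at h
  simp only [Finset.sum_add_distrib, Finset.sum_const, nsmul_eq_mul, ← Finset.mul_sum] at h
  have h1 : (∑ i ∈ N, t i) * ∑ i ∈ N, (t i)⁻¹ = N.card * N.card :=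
    mul_left_cancel₀ (pow_ne_zero 2 hr) (by linear_combination h)
  have h2 : ‖∑ i ∈ N, (t i)⁻¹‖ ≤ N.card := (norm_sum_le _ _).trans (by
    simpa using Finset.sum_le_card_nsmul N _ 1 fun i hi =>
      (norm_inv (t i)).trans_le (inv_le_one_of_one_le₀ (ht i hi)))
  have h3 := congrArg norm h1
  rw [norm_mul, norm_mul, Complex.norm_natCast] at h3
  have h4 : (0 : ℝ) < N.card := by exact_mod_cast hN.card_pos
  exact le_of_mul_le_mul_right (h3 ▸ mul_le_mul_of_nonneg_left h2 (norm_nonneg _)) h4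

theorem Hyp.lattice (h : Hyp G Ω) (hs : s ∈ A G a) (s1 : s ≠ 1) {ι κ : Type*} {N : Finset ι}
    {J : Finset κ} (hN : N.Nonempty) (hJ : J.Nonempty) {β : ι → G → ℂ} {γ : κ → G → ℂ}
    {r : κ → κ → ℝ}
    (hβ : ∀ i ∈ N, β i ∈ ZIrr ⊤ ∧ Ev (β i) ∧ β i s = ♯(A G a) ∧ ⟪β i, β i⟫[⊤] = 2)
    (hββ : ∀ i ∈ N, ∀ j ∈ N, i ≠ j → ⟪β i, β j⟫[⊤] = 0)
    (hγ : ∀ k ∈ J, γ k ∈ ZIrr ⊤ ∧ Ev (γ k) ∧ γ k s = 0 ∧ ∀ i ∈ N, ⟪γ k, β i⟫[⊤] = 1)
    (hγγ : ∀ k ∈ J, ∀ l ∈ J, ⟪γ k, γ l⟫[⊤] = (N.card + r k l : ℝ))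
    (hr : ∀ k ∈ J, r k k = 1 ∧ (∀ l ∈ J, 0 ≤ r k l) ∧ ∑ l ∈ J, r k l ≤ N.card) :
    4 * J.card * N.card * ((Invs G).ncard : ℝ) ^ 2 ≤ Nat.card G * (♯(A G a) - 2) ^ 2 := by
  obtain ⟨k, hk⟩ := id hJ
  choose! Y Y' hY hY' hYY e h1 using fun i hi => exists_dirr_sub (hβ i hi).1 (hβ i hi).2.1.one
    (hβ i hi).2.2.2 (hγ k hk).1 ((hγ k hk).2.2.2 i hi)
  have h2 : ∀ i ∈ N, ∀ δ ∈ ZIrr (⊤ : Subgroup G), δ 1 = 0 → cfnorm ⊤ δ ≤ 2 → ⟪δ, β i⟫[⊤] = 0 →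
      ⟪δ, Y i⟫[⊤] = 0 := fun i hi δ h3 h4 h5 h6 => cfdot_eq_zero_of_sub h3 h4 h5 (hY i hi)
    (hY' i hi) (hYY i hi) (e i hi ▸ (hβ i hi).2.1.one) (e i hi ▸ h6)
  have h3 : cfnorm ⊤ (∑ i ∈ N, Y i) = N.card := by
    rw [cfnorm_sum_orth _ _ fun i hi j hj hij => cfdot_eq_zero_of_dirr (hY i hi) (hY' i hi)
      (hYY i hi) (hY j hj) (e i hi ▸ h2 j hj _ (hβ i hi).1 (hβ i hi).2.1.one
        (cfnorm_eq_of_cfdot (by simpa using (hβ i hi).2.2.2)).le (hββ i hi j hj hij)),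
      Finset.sum_congr rfl fun i hi => (hY i hi).cfnorm]
    simp
  have h4 : ∀ l ∈ J, cfnorm ⊤ (γ l) = N.card + 1 := fun l hl =>
    cfnorm_eq_of_cfdot (by rw [hγγ l hl l hl, (hr l hl).1])
  have h5 : ∀ l ∈ J, (N.card : ℝ) ≤ (⟪γ l, ∑ i ∈ N, Y i⟫[⊤]).re := fun l hl => by
    rw [cfdot_sumr, Complex.re_sum]
    refine le_trans (by simp) (Finset.card_nsmul_le_sum N _ 1 fun i hi => ?_)
    have := h2 i hi (γ k - γ l) (sub_mem (hγ k hk).1 (hγ l hl).1)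
      ((hγ k hk).2.1.sub (hγ l hl).2.1).one (by
        rw [cfnormB, h4 k hk, h4 l hl, hγγ k hk l hl, Complex.ofReal_re]
        linarith [(hr k hk).2.1 l hl])
      (by rw [cfdotBl, (hγ k hk).2.2.2 i hi, (hγ l hl).2.2.2 i hi, sub_self])
    rw [cfdotBl, sub_eq_zero] at this
    exact this ▸ h1 i hi
  have hv : ∑ i ∈ N, Y i ∈ ZIrr ⊤ := sum_mem fun i hi => (hY i hi).vchar
  have h6 : IsDirr ⊤ (γ k - ∑ i ∈ N, Y i) := by
    refine vchar_norm1P (sub_mem (hγ k hk).1 hv) (le_antisymm (by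
      rw [cfnormB, h4 k hk, h3]; linarith [h5 k hk]) (cfnorm_vchar_ge1 (sub_mem (hγ k hk).1 hv)
      fun e => ?_))
    have := h4 k hk
    rw [sub_eq_zero.1 e, h3] at this
    linarith
  obtain ⟨n, hn, hq⟩ := h.exists_card a
  obtain ⟨n, rfl⟩ : ∃ j, n = j + 1 := ⟨n - 1, by omega⟩
  have hI : ((Invs G).ncard : ℂ) ≠ 0 := Nat.cast_ne_zero.2
    (Set.ncard_ne_zero_of_mem (show s ∈ Invs G from ⟨s1, h.sq hs⟩))
  have hq2 : (♯(A G a) : ℂ) - 2 ≠ 0 := sub_ne_zero.2 (by exact_mod_cast (h.four a).ne')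
  have h7 : ∀ i ∈ N, Y i 1 = 2 * (Invs G).ncard / (♯(A G a) - 2) * (Y i s - 2 ^ n) := fun i hi => by
    have e1 := h.invSum_dirr hs s1 (hY i hi)
    have e2 := h.invSum_dirr hs s1 (hY' i hi)
    have e3 := h.invSum_ev hs s1 (vchar_mem_CF (hβ i hi).1) (hβ i hi).2.1
    have e4 := (hβ i hi).2.1.one
    have e5 := (hβ i hi).2.2.1
    rw [e5, e i hi, invSum_sub] at e3
    rw [e i hi, Pi.sub_apply] at e4 e5
    rw [hq, Nat.cast_pow, Nat.cast_ofNat, pow_succ] at e3 e5 hq2 ⊢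
    rw [div_mul_eq_mul_div, eq_div_iff hq2]
    refine mul_left_cancel₀ (mul_ne_zero hI (pow_ne_zero n two_ne_zero)) ?_
    linear_combination (1 / 2) * e1 - (1 / 2) * e2 - (Y i 1 / 2) * e3 - invSum (Y' i) / 2 * e4 +
      (Invs G).ncard ^ 2 / 2 * (Y i s - 2 ^ n * 2 + Y' i s) * e5
  have hc : 2 * ((Invs G).ncard : ℂ) / (♯(A G a) - 2) ≠ 0 :=
    div_ne_zero (mul_ne_zero two_ne_zero hI) hq2
  have h8 : (∑ i ∈ N, Y i) 1 = 2 * (Invs G).ncard / (♯(A G a) - 2) * ∑ i ∈ N, (Y i s - 2 ^ n) := by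
    rw [Finset.sum_apply, Finset.mul_sum, Finset.sum_congr rfl h7]
  have h9 : (N.card : ℝ) ≤ ‖∑ i ∈ N, (Y i s - 2 ^ n)‖ := by
    refine card_le_norm_sum hN (pow_ne_zero n two_ne_zero) (fun i hi => ((h.cint hs
      (hY i hi).vchar).sub ((isCint_natCast 2).pow n)).one_le_norm fun e =>
        (hY i hi).one_ne_zero (by rw [h7 i hi]; exact mul_eq_zero_of_right _ e)) ?_
    have e1 := h.invSum_dirr hs s1 h6
    rw [invSum_sub, h.invSum_ev hs s1 (vchar_mem_CF (hγ k hk).1) (hγ k hk).2.1, Pi.sub_apply,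
      Pi.sub_apply, (hγ k hk).2.1.one, (hγ k hk).2.2.1, h8, invSum_sum,
      Finset.sum_congr rfl (f := fun i => invSum (Y i)) (g := fun i => (Invs G).ncard ^ 2 *
        (2 * ((Invs G).ncard : ℂ) / (♯(A G a) - 2))⁻¹ * (Y i s ^ 2 / (Y i s - 2 ^ n))) fun i hi => by
        refine mul_left_cancel₀ (hY i hi).one_ne_zero ?_
        have := right_ne_zero_of_mul (h7 i hi ▸ (hY i hi).one_ne_zero)
        rw [h.invSum_dirr hs s1 (hY i hi), h7 i hi]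
        field_simp, ← Finset.mul_sum, Finset.sum_apply] at e1
    simp only [sub_add_cancel]
    refine mul_left_cancel₀ (pow_ne_zero 2 hI) ?_
    have := mul_inv_cancel₀ hc
    linear_combination e1 - (Invs G).ncard ^ 2 * (∑ i ∈ N, (Y i s - 2 ^ n)) *
      (∑ i ∈ N, Y i s ^ 2 / (Y i s - 2 ^ n)) * this
  have e1 := cfCauchySchwarz (H := ⊤) (∑ l ∈ J, γ l - (J.card : ℂ) • ∑ i ∈ N, Y i) (cfReg ⊤)
  have e2 : cfnorm ⊤ (∑ l ∈ J, γ l) ≤ J.card * (J.card * N.card + N.card) := by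
    rw [cfnorm_eq_re, cfdot_suml, Complex.re_sum, ← nsmul_eq_mul]
    refine Finset.sum_le_card_nsmul _ _ _ fun l hl => ?_
    rw [cfdot_sumr, Finset.sum_congr rfl (hγγ l hl), ← Complex.ofReal_sum, Complex.ofReal_re,
      Finset.sum_add_distrib, Finset.sum_const, nsmul_eq_mul]
    linarith [(hr l hl).2.2]
  have e3 : (J.card : ℝ) * N.card ≤ (⟪∑ l ∈ J, γ l, ∑ i ∈ N, Y i⟫[⊤]).re := by
    rw [cfdot_suml, Complex.re_sum, ← nsmul_eq_mul]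
    exact Finset.card_nsmul_le_sum _ _ _ h5
  rw [cfdot_cfReg, cfnormB, cfnormZ, h3, cfdotZr, map_natCast, Complex.mul_re, Complex.natCast_re,
    Complex.natCast_im, zero_mul, sub_zero,
    cfnorm_eq_of_cfdot (φ := cfReg ⊤) (r := Nat.card G) (by rw [cfdot_cfReg, cfReg_one]; simp),
    Pi.sub_apply, Pi.smul_apply, h8, Finset.sum_apply,
    Finset.sum_eq_zero fun l hl => (hγ l hl).2.1.one, zero_sub, norm_neg, smul_eq_mul, norm_mul,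
    norm_mul, norm_div, norm_mul, Complex.norm_natCast, Complex.norm_natCast, Complex.norm_two,
    show ‖(♯(A G a) : ℂ) - 2‖ = ♯(A G a) - 2 by
      rw [← Complex.ofReal_natCast, ← Complex.ofReal_ofNat, ← Complex.ofReal_sub, Complex.norm_real]
      exact abs_of_nonneg (sub_nonneg.2 (by exact_mod_cast (h.four a).le))] at e1
  have p1 : (0 : ℝ) < J.card := by exact_mod_cast hJ.card_pos
  have p2 : (0 : ℝ) < N.card := by exact_mod_cast hN.card_pos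
  have p3 : (0 : ℝ) < ♯(A G a) - 2 := sub_pos.2 (by exact_mod_cast h.four a)
  generalize (♯(A G a) - 2 : ℝ) = d at e1 p3 ⊢
  have e4 : (J.card * (2 * (Invs G).ncard / d * N.card) : ℝ) ^ 2 ≤
      J.card * N.card * Nat.card G := le_trans (by gcongr) (e1.trans
    (mul_le_mul_of_nonneg_right (by nlinarith) (Nat.cast_nonneg _)))
  refine le_of_mul_le_mul_left (le_of_eq_of_le ?_ ((mul_le_mul_of_nonneg_right e4
    (sq_nonneg d)).trans_eq (mul_assoc _ _ _))) (mul_pos p1 p2)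
  field_simp
  ring

end Cfsg.Agent.SEA
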