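import Cfsg.Agent.Lib.SEA.Two
import Cfsg.Agent.Lib.ODD.Char1

/-!
# Products of two involutions and induction from the point stabilizer
-/

set_option autoImplicit false
set_option linter.unusedSectionVars false

namespace Cfsg.Agent.SEA

open Subgroup MulAction Cfsg.Agent.Coprime Cfsg.Agent.OO Cfsg.Agent.ODD
open scoped Pointwise

universe u v

variable {G : Type u} {Ω : Type v} [Group G] [MulAction G Ω] [Finite G]
  {a b c : Ω} {d g k s t u w x y : G} {H K L : Subgroup G} {φ ψ : G → ℂ}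

theorem sum_conj {X : Set G} (hX : ∀ y, y ∈ X ↔ ∃ g ∈ L, g * s * g⁻¹ = y) (F : G → ℂ) :
    ∑ g ∈ elts (L : Set G), F (g * s * g⁻¹) = ♯(L ⊓ 𝐂[s]) * ∑ y ∈ elts X, F y := by
  classical
  rw [← Finset.sum_fiberwise_of_maps_to (g := fun g => g * s * g⁻¹) (t := elts X)
    fun g hg => mem_elts.2 ((hX _).2 ⟨g, mem_elts.1 hg, rfl⟩), Finset.mul_sum]
  refine Finset.sum_congr rfl fun y hy => ?_
  obtain ⟨g, hg, rfl⟩ := (hX y).1 (mem_elts.1 hy)
  rw [Finset.sum_congr rfl (g := fun _ => F (g * s * g⁻¹)) fun x hx => by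
    rw [(Finset.mem_filter.1 hx).2], Finset.sum_const, nsmul_eq_mul]
  congr 2
  convert card_filter_conj_eq L s (g * s * g⁻¹)
  rw [if_pos ⟨g, hg, rfl⟩, ← card_conj g, conj_inf, conj_eq_of_mem hg, cent1_conj]

/-- class functions vanishing on the elements of odd order -/
def Ev (φ : G → ℂ) : Prop := ∀ x, ¬ 2 ∣ orderOf x → φ x = 0

theorem Ev.cfInd (h : Ev φ) (L H : Subgroup G) : Ev (cfInd L H φ) := fun x hx => by
  by_cases e : x ∈ L
  · exact cfInd_eq_zero H fun g _ => h _ (by rwa [← orderOf_conj g⁻¹ x, inv_inv] at hx)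
  · exact cfInd_of_not_mem H φ e

theorem Ev.one (h : Ev φ) : φ 1 = 0 := h 1 (by simp)

theorem Ev.sub (h : Ev φ) (h' : Ev ψ) : Ev (φ - ψ) := fun x hx => by
  rw [Pi.sub_apply, h x hx, h' x hx, sub_zero]

theorem invSum_sum {ι : Type*} (s : Finset ι) (f : ι → G → ℂ) :
    invSum (∑ i ∈ s, f i) = ∑ i ∈ s, invSum (f i) := by
  simp only [invSum, Finset.sum_apply]
  rw [Finset.sum_comm (s := s)]
  exact Finset.sum_congr rfl fun _ _ => Finset.sum_comm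

theorem invSum_smul (c : ℂ) (φ : G → ℂ) : invSum (c • φ) = c * invSum φ := by
  simp only [invSum, Pi.smul_apply, smul_eq_mul, Finset.mul_sum]

theorem Pre.cfInd_stab (h : Pre G Ω) (hφ : φ ∈ CF (stabilizer G a)) (h0 : Ev φ) (hx : x • a = a) :
    cfInd ⊤ (stabilizer G a) φ x = φ x := by
  refine cfInd_eq_self le_top hφ (mem_top x) fun g _ hg => ?_
  by_cases e : g⁻¹ * x * g ∈ stabilizer G a
  · refine h0 _ fun e' => hg (by_contra fun e1 => h.odd_of_mem_D (Ne.symm e1) ⟨hx, ?_⟩ ?_)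
    · rwa [mem_stabilizer_iff, mul_smul, mul_smul, inv_smul_eq_iff] at e
    · rwa [← orderOf_conj g⁻¹ x, inv_inv]
  · exact cfun0 hφ e

theorem Pre.cfdot_cfInd (h : Pre G Ω) (hφ : φ ∈ CF (stabilizer G a))
    (hψ : ψ ∈ CF (stabilizer G a)) (h0 : Ev ψ) :
    ⟪cfInd ⊤ (stabilizer G a) φ, cfInd ⊤ (stabilizer G a) ψ⟫[⊤] = ⟪φ, ψ⟫[stabilizer G a] := by
  rw [cfdot_cfInd_left le_top (CF_le_suppOn _ hφ) (cfInd_mem_CF _ _ _)]
  exact cfdot_congr (fun _ _ => rfl) fun x hx => h.cfInd_stab hψ h0 hx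

namespace Hyp

variable (h : Hyp G Ω)
include h

theorem mem_sharp_iff (hs : s ∈ A G a) (s1 : s ≠ 1) (y : G) :
    y ∈ sharp (A G a) ↔ ∃ g ∈ stabilizer G a, g * s * g⁻¹ = y := by
  haveI := h.nontriv
  obtain ⟨b, hab⟩ := exists_ne a
  obtain ⟨u, hu, e⟩ := h.exists_swap' hab.symm
  refine ⟨fun hy => ?_, ?_⟩
  · obtain ⟨k, hk, -, e⟩ := h.exists_conj hab.symm hu e hs s1 hy.1 hy.2
    exact ⟨k, hk.1, e⟩
  · rintro ⟨g, hg, rfl⟩
    exact conj_mem_sharp (stab_le_norm a hg) ⟨hs, s1⟩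

theorem mem_invs (hs : s ∈ A G a) (s1 : s ≠ 1) (y : G) :
    y ∈ Invs G ↔ ∃ g ∈ (⊤ : Subgroup G), g * s * g⁻¹ = y := by
  refine ⟨fun hy => ?_, ?_⟩
  · obtain ⟨c, hc⟩ := h.ex y hy.2
    obtain ⟨g, rfl⟩ := h.trans a c
    obtain ⟨k, -, e⟩ := (h.mem_sharp_iff (conj_mem_A hs g) (BSW.conj_ne_one s1) y).1
      ⟨h.mem_A.2 ⟨hc, hy.2⟩, hy.1⟩
    exact ⟨k * g, mem_top _, by rw [← e]; group⟩
  · rintro ⟨g, -, rfl⟩
    exact conj_mem_invs.2 ⟨s1, h.sq hs⟩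

theorem ncard_invs (a : Ω) : (Invs G).ncard = Nat.card Ω * (♯(A G a) - 1) := by
  haveI := h.nontriv
  obtain ⟨b, hab⟩ := exists_ne a
  obtain ⟨s, hs, s1⟩ := h.exists_A a
  rw [← h.relIndex_cent hab.symm hs s1 inf_le_left le_rfl, ← h.index_stab a, mul_comm,
    relIndex_mul_index (h.cent_le hs s1), ← relIndex_top_right, relIndex_centralizer_eq_ncard]
  congr 1
  exact Set.ext fun y => (h.mem_invs hs s1 y).trans
    ⟨fun ⟨g, h1, h2⟩ => ⟨g, h1, h2.symm⟩, fun ⟨g, h1, h2⟩ => ⟨g, h1, h2.symm⟩⟩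

theorem apply_invs (hs : s ∈ A G a) (s1 : s ≠ 1) (hφ : φ ∈ CF ⊤) (hy : y ∈ Invs G) : φ y = φ s := by
  obtain ⟨g, hg, rfl⟩ := (h.mem_invs hs s1 y).1 hy
  exact cfunJ hφ hg s

theorem invSum_dirr (hs : s ∈ A G a) (s1 : s ≠ 1) (hφ : IsDirr ⊤ φ) :
    φ 1 * invSum φ = ((Invs G).ncard * φ s) ^ 2 := by
  rw [ODD.invSum_dirr hφ, Finset.sum_congr rfl fun y hy =>
    h.apply_invs hs s1 hφ.mem_CF (mem_elts.1 hy), Finset.sum_const, card_elts_set, nsmul_eq_mul]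

theorem invSum_ev (hs : s ∈ A G a) (s1 : s ≠ 1) (hφ : φ ∈ CF ⊤) (h0 : Ev φ) :
    invSum φ = (Invs G).ncard * ((♯(A G a) - 2) * φ s) := by
  classical
  rw [invSum, ← card_elts_set, ← nsmul_eq_mul, ← Finset.sum_const]
  refine Finset.sum_congr rfl fun v hv => ?_
  have hv := mem_elts.1 hv
  obtain ⟨c, hc⟩ := h.ex v hv.2
  have h1 := h.mem_A.2 ⟨hc, hv.2⟩
  rw [← sum_elts_subset (A := sharp (A G c) \ {v}) (B := Invs G)
      fun u hu => ⟨hu.1.2, h.sq hu.1.1⟩,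
    Finset.sum_congr rfl (g := fun _ => φ s), Finset.sum_const, card_elts_set,
    Set.ncard_diff_singleton_of_mem (show v ∈ sharp (A G c) from ⟨h1, hv.1⟩), ncard_sharp,
    nsmul_eq_mul, h.card_A c a, Nat.sub_sub, Nat.cast_sub (h.four a).le, Nat.cast_ofNat]
  · intro u hu
    have hu := mem_elts.1 hu
    exact h.apply_invs hs s1 hφ ⟨fun e => hu.2 ((eq_inv_of_mul_eq_one_left e).trans (h.inv_eq h1)),
      h.sq (mul_mem hu.1.1 h1)⟩
  · intro u hu e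
    by_cases e' : u = v
    · rw [e', hv.2, h0.one]
    obtain ⟨b, hb⟩ := h.ex u hu.2
    have h2 := h.mem_A.2 ⟨hb, hu.2⟩
    exact h0 _ (h.odd_mul (by rintro rfl; exact e ⟨⟨h2, hu.1⟩, e'⟩) h1 hv.1 h2 hu.1)

theorem cint (hs : s ∈ A G a) (hφ : φ ∈ ZIrr ⊤) : IsCint (φ s) :=
  Cint_vchar_of_pow hφ fun k hk => by
    by_cases s1 : s = 1
    · simp [s1]
    rw [orderOf_eq_prime (p := 2) (by rw [pow_two, h.sq hs]) s1, Nat.coprime_two_right] at hk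
    obtain ⟨j, rfl⟩ := hk
    rw [pow_succ, pow_mul, pow_two, h.sq hs, one_pow, one_mul]

end Hyp

end Cfsg.Agent.SEA
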