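import Cfsg.Agent.Lib.SEA.Lin

/-!
# Double transitivity, the transitivity of `C(A)`, and the cyclic group `K`
-/

set_option autoImplicit false
set_option linter.unusedSectionVars false

namespace Cfsg.Agent.SEA

open Subgroup MulAction Cfsg.Agent.Coprime Cfsg.Agent.OO
open scoped Pointwise

universe u v

variable {G : Type u} {Ω : Type v} [Group G] [MulAction G Ω] [Finite G]
  {a b c : Ω} {d g k s t u w x y : G} {H K P S X : Subgroup G} {p n : ℕ}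

namespace Hyp

variable (h : Hyp G Ω)
include h

theorem exists_card (a : Ω) : ∃ n, 2 ≤ n ∧ ♯(A G a) = 2 ^ n := by
  obtain ⟨n, hn⟩ := (h.A_two a).exists_card_eq
  have := h.four a
  refine ⟨n, ?_, hn⟩
  rcases n with _ | _ | n <;> simp_all

theorem odd_m (a : Ω) : ¬ 2 ∣ ♯(A G a) - 1 := by
  obtain ⟨n, h1, h2⟩ := h.exists_card a
  obtain ⟨n, rfl⟩ : ∃ k, n = k + 1 := ⟨n - 1, by omega⟩
  have := card_pos' (A G a)
  omega

theorem four_le (a : Ω) : 4 ≤ ♯(A G a) := by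
  have := h.odd_m a
  have := h.four a
  omega

theorem cent_A_le (a : Ω) : 𝐂(A G a) ≤ stabilizer G a :=
  let ⟨_, hs, s1⟩ := h.exists_A a
  (cent_le_cent1 hs).trans (h.cent_le hs s1)

theorem exists_two (a : Ω) : ∃ s ∈ A G a, ∃ t ∈ A G a, s ≠ 1 ∧ t ≠ 1 ∧ s ≠ t := by
  have := h.four a
  rw [← SetLike.coe_sort_coe, Nat.card_coe_set_eq] at this
  obtain ⟨x, hx, y, hy, z, hz, h1, h2, h3⟩ := (Set.two_lt_ncard (Set.toFinite _)).1 this
  by_cases e : x = 1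
  · exact ⟨y, hy, z, hz, e ▸ h1.symm, e ▸ h2.symm, h3⟩
  by_cases e' : y = 1
  · exact ⟨x, hx, z, hz, e, e' ▸ h3.symm, h2⟩
  · exact ⟨x, hx, y, hy, e, e', h1⟩

theorem not_big [Fact p.Prime] (hab : a ≠ b) (hp : p ∣ ♯(A G a) - 1) (hP : Syl p P (D G a b)) :
    ¬ Big Ω P := fun e => by
  obtain ⟨s, hs, s1, e'⟩ := h.good (by rintro rfl; exact h.odd_m a hp) P hP.isPGroup e a
    (hP.le.trans inf_le_left)
  exact hP.not_dvd ((h.relIndex_cent hab hs s1 le_rfl inf_le_left ▸ hp).trans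
    (relIndex_dvd_of_le_left _ (le_cent1_iff.2 e')))

theorem syl_stab [Fact p.Prime] (hab : a ≠ b) (hp : p ∣ ♯(A G a) - 1) (hP : Syl p P (D G a b)) :
    Syl p P (stabilizer G a) :=
  .of_syl_norm (hP.le.trans inf_le_left) (hP.mono (le_inf (hP.le.trans inf_le_left)
    (le_norm_self P)) (norm_le_of_not_big (h.not_big hab hp hP) hP.le hab))

theorem two_trans (hab : a ≠ b) (hac : a ≠ c) : ∃ g ∈ stabilizer G a, g • b = c := by
  obtain ⟨p, hp, hd⟩ := Nat.exists_prime_and_dvd (n := ♯(A G a) - 1) (by have := h.four a; omega)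
  haveI := Fact.mk hp
  obtain ⟨P, hP⟩ := exists_syl p (D G a b)
  obtain ⟨Q, hQ⟩ := exists_syl p (D G a c)
  obtain ⟨g, hg, rfl⟩ := (h.syl_stab hab hd hP).exists_conj' (h.syl_stab hac hd hQ)
  refine ⟨g, hg, (eq_or_eq_of_not_big (h.not_big hac hd hQ) (hQ.le.trans inf_le_left)
    (hQ.le.trans inf_le_right) hac (conj_stab g b ▸ conj_mono g
      (hP.le.trans inf_le_right))).resolve_left fun e => hab ?_⟩
  exact smul_left_cancel g ((mem_stabilizer_iff.1 hg).trans e.symm)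

/-- an element of prime power order with three fixed points centralizes involutions -/
theorem good_elt (hp : p.Prime) (hx : PiElt {p} x) (hab : a ≠ b) (hac : a ≠ c) (hbc : b ≠ c)
    (h1 : x ∈ D G a b) (h2 : x • c = c) {e : Ω} (he : x • e = e) :
    ∃ s ∈ A G e, s ≠ 1 ∧ s ∈ 𝐂[x] := by
  haveI := Fact.mk hp
  by_cases x1 : x = 1
  · obtain ⟨s, hs, s1⟩ := h.exists_A e
    exact ⟨s, hs, s1, by simp [x1, mem_cent1]⟩
  have := h.good (p := p) (by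
    rintro rfl
    exact h.odd_of_mem_D hab h1 (Nat.card_zpowers x ▸ dvd_card_of_isPGroup
      (isPGroup_zpowers_iff.2 hx) (zpowers_ne_bot.2 x1))) _ (isPGroup_zpowers_iff.2 hx)
    (big_of (zpowers_le.2 h1.1) (zpowers_le.2 h1.2) (zpowers_le.2 h2) hab hac hbc) e
    (zpowers_le.2 he)
  rwa [Good, cent_zpowers] at this

theorem A_le_of_mem (hab : a ≠ b) (h1 : A G a ≤ H) (ht : t ∈ A G b) (t1 : t ≠ 1) (h2 : t ∈ H) :
    A G b ≤ H := by
  obtain ⟨s, hs, s1⟩ := h.exists_A a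
  obtain ⟨w, -, e, -, h3⟩ := h.exists_swap hab hs s1 ht t1
  rw [← e, ← conj_A]
  exact conj_le_of_mem (h3 H (h1 hs) h2) h1

theorem cent_A (hab : a ≠ b) (hx : x ∈ D G a b) (h1 : x ∈ 𝐂(A G a)) : x ∈ 𝐂(A G b) :=
  mem_of_forall_constt_mem fun p hp _ => by
    obtain ⟨s, hs, s1⟩ := h.exists_A a
    have h2 := constt_mem {p} hx
    have h3 := constt_mem {p} h1
    obtain ⟨t, ht, t1, e⟩ := h.good_elt hp (piElt_constt {p} x) hab (h.smul_ne' hs hab)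
      (h.smul_ne hs s1 hab).symm h2 (by
        rw [← mul_smul, ← mem_cent_iff.1 h3 s hs, mul_smul, h2.2]) h2.2
    exact le_cent1_iff.1 (h.A_le_of_mem hab (le_cent1_iff.2 h3) ht t1 e)

theorem W_comm (hab : a ≠ b) : D G a b ⊓ 𝐂(A G a) = D G a b ⊓ 𝐂(A G b) :=
  le_antisymm (fun _ hx => ⟨hx.1, h.cent_A hab hx.1 hx.2⟩)
    fun _ hx => ⟨hx.1, h.cent_A hab.symm ⟨hx.1.2, hx.1.1⟩ hx.2⟩

theorem W_cent (hab : a ≠ b) (hx : x ∈ D G a b ⊓ 𝐂(A G a)) (hw : w * w = 1) (e : w • a = b) :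
    x * w * x⁻¹ = w :=
  let ⟨_, hs, s1⟩ := h.exists_A a
  h.conj_swap_eq hab hs s1 hx.1 hx.2 (h.cent_A hab hx.1 hx.2) hw e

theorem A_le_syl (hS : Syl 2 S H) (h1 : A G a ≤ H) (h2 : H ≤ stabilizer G a) : A G a ≤ S :=
  hS.le_of_normal ((h.A_normal a).mono h1 h2) (h.A_two a)

theorem syl_le_cent (hS : Syl 2 S H) (h1 : A G a ≤ H) (h2 : H ≤ stabilizer G a) : S ≤ 𝐂(A G a) :=
  (Ab.le_cent (h.ab2 S hS.isPGroup)).trans (cent_anti (h.A_le_syl hS h1 h2))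

theorem odd_relIndex (h1 : A G a ≤ H) (h2 : H ≤ stabilizer G a) :
    ¬ 2 ∣ (𝐂(A G a)).relIndex H := fun e => by
  obtain ⟨S, hS⟩ := exists_syl 2 H
  exact hS.not_dvd (e.trans (relIndex_dvd_of_le_left _ (h.syl_le_cent hS h1 h2)))

theorem exists_lin_stab (hab : a ≠ b) (hn : ♯(A G a) = 2 ^ n) :
    ∃ T f, Lin (A G a) (stabilizer G a) T f n := by
  obtain ⟨u, hu, e⟩ := h.exists_swap' hab
  refine exists_lin (h.abelem a) (fun e => by simpa [e] using h.four a) (stab_le_norm a)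
    (h.odd_relIndex (h.A_le a) le_rfl) hn fun s hs s1 t ht t1 => ?_
  obtain ⟨k, hk, -, e⟩ := h.exists_conj hab hu e hs s1 ht t1
  exact ⟨k, hk.1, e⟩

theorem relIndex_le (hn : ♯(A G a) = 2 ^ n) (hs : s ∈ A G a) (s1 : s ≠ 1) :
    (𝐂(A G a)).relIndex 𝐂[s] ≤ n := by
  haveI := h.nontriv
  obtain ⟨b, hab⟩ := exists_ne a
  obtain ⟨T, f, hT⟩ := h.exists_lin_stab hab.symm hn
  have h1 := relIndex_mul_relIndex _ _ _ (cent_le_cent1 hs) (h.cent_le hs s1)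
  have h2 := relIndex_mul_relIndex _ _ _ (fun x hx => hT.cent_le ⟨h.cent_A_le a hx, hx⟩) hT.le
  rw [h.relIndex_cent hab.symm hs s1 inf_le_left le_rfl] at h1
  have h3 := hT.relIndex_le hs s1
  have h4 := Nat.le_of_dvd (Nat.pos_of_ne_zero (by rintro rfl; have := h.four a; omega)) hT.index
  have h5 := h.four a
  refine Nat.le_of_mul_le_mul_right ?_ (show 0 < ♯(A G a) - 1 by omega)
  rw [h1, ← h2, mul_comm]
  exact Nat.mul_le_mul h4 h3

theorem cent_trans (hab : a ≠ b) (hac : a ≠ c) : ∃ y ∈ 𝐂(A G a), y • b = c := by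
  obtain ⟨n, -, hn⟩ := h.exists_card a
  obtain ⟨T, f, hT⟩ := h.exists_lin_stab hab hn
  have hC : 𝐂(A G a) ⊴ stabilizer G a := ⟨h.cent_A_le a, le_norm_cent (stab_le_norm a)⟩
  have h1 : ¬ T ≤ 𝐂(A G a) := fun e => by
    obtain ⟨u, hu, e1⟩ := h.exists_swap' hab
    obtain ⟨s, hs, t, ht, s1, t1, e2⟩ := h.exists_two a
    obtain ⟨k, hk, -, e3⟩ := h.exists_conj hab hu e1 hs s1 ht t1
    exact e2 ((mem_cent_iff_conj.1 (e (hT.cent k hk.1 (mul_mem (inv_mem (e hT.f_mem))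
      (hC.conj_mem hk.1 (e hT.f_mem))))) s hs).symm.trans e3)
  obtain ⟨r, hr, hd⟩ := Nat.exists_prime_and_dvd (mt relIndex_eq_one.1 h1)
  haveI := Fact.mk hr
  obtain ⟨R, hR⟩ := exists_syl r T
  have h2 : ¬ Good R a := fun ⟨s, hs, s1, e⟩ => hR.not_dvd (hd.trans (relIndex_dvd_of_le_left _
    fun x hx => hT.semireg x (hR.le hx) s hs s1 (mem_cent_iff.1 e x hx)))
  have h3 := Coprime.card_modEq_card_inf_centralizer hR.isPGroup (hR.le.trans (hT.le.trans hT.norm))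
  rw [show A G a ⊓ 𝐂(R) = ⊥ from
    eq_bot_iff.2 fun t ht => by_contra fun t1 => h2 ⟨t, ht.1, t1, ht.2⟩, card_bot] at h3
  have h4 := (Nat.modEq_iff_dvd' (card_pos' _)).1 h3.symm
  obtain ⟨P, hP⟩ := exists_syl r (D G a b)
  obtain ⟨g, hg, h5⟩ := (h.syl_stab hab h4 hP).exists_le_conj' (hR.le.trans hT.le) hR.isPGroup
  have h6 := h5.trans (conj_mono g hP.le)
  rw [conj_D, mem_stabilizer_iff.1 hg] at h6
  have h7 : a ≠ g • b := fun e => hab (smul_left_cancel g ((mem_stabilizer_iff.1 hg).trans e))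
  have h8 := norm_le_of_not_big (fun e => h2 (h.good (by rintro rfl; exact h.odd_m a h4) R
    hR.isPGroup e a (h6.trans inf_le_left))) h6 h7
  have hTC : 𝐂(A G a) ≤ T := fun x hx => hT.cent_le ⟨h.cent_A_le a hx, hx⟩
  have h9 : 𝐂(A G a) ⊔ R ⊴ T := normalIn_of_der_le (hT.der_le_cent.trans le_sup_left)
    (sup_le hTC hR.le)
  have key : ∀ c : Ω, a ≠ c → ∃ y ∈ 𝐂(A G a), y • g • b = c := fun c hc => by
    obtain ⟨x, hx, rfl⟩ := h.two_trans h7 hc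
    obtain ⟨t, ht, n1, hn1, rfl⟩ := (hR.frattini hT.normal).mem_iff.1 hx
    obtain ⟨z, hz, n2, hn2, rfl⟩ := ((hR.mono le_sup_right h9.le).frattini h9).mem_iff.1 ht
    obtain ⟨y, hy, r, hr, rfl⟩ := (mem_sup_norm_left (hR.le.trans (hT.le.trans hC.norm))).1 hz
    exact ⟨y, hy, by rw [mul_smul, mul_smul, mul_smul, (h8 hn1).2, (h8 ⟨hT.le hn2.1, hn2.2⟩).2,
      (h6 hr).2]⟩
  obtain ⟨y, hy, e⟩ := key b hab
  obtain ⟨z, hz, e'⟩ := key c hac
  exact ⟨z * y⁻¹, mul_mem hz (inv_mem hy), by rw [mul_smul, ← e', ← e, inv_smul_smul, e]⟩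

end Hyp

variable (G) in
/-- `u` swaps `a, b` and `K` is the set of elements of the two point stabilizer inverted by `u` -/
structure Fr (a b : Ω) (u : G) (K : Subgroup G) : Prop extends Hyp G Ω where
  ne : a ≠ b
  u2 : u * u = 1
  ua : u • a = b
  mem_K : ∀ {k}, k ∈ K ↔ k ∈ D G a b ∧ u * k * u⁻¹ = k⁻¹
  cyc : IsCyclic K
  der_le : ∀ s ∈ A G a, s ≠ 1 → der (D G a b) ⊓ 𝐂[s] ≤ 𝐂(A G a)

theorem mul_swap (hu : u * u = 1) (e : u • a = b) (hk : k ∈ D G a b) (h : u * k * u⁻¹ = k⁻¹) :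
    u * k * (u * k) = 1 ∧ (u * k) • a = b :=
  ⟨by nth_rw 2 [← BSW.inv_eq_of_mul_self hu]; rw [← mul_assoc, h, inv_mul_cancel],
    by rw [mul_smul, hk.1, e]⟩

theorem Pre.inverted_inj (h : Pre G Ω) (hab : a ≠ b) (hu : u * u = 1) (e : u • a = b)
    (hs : s ∈ A G a) (s1 : s ≠ 1) (hk : k ∈ D G a b) (h1 : u * k * u⁻¹ = k⁻¹) (hd : d ∈ D G a b)
    (h2 : u * d * u⁻¹ = d⁻¹) (e' : k * s * k⁻¹ = d * s * d⁻¹) : k = d :=
  mul_left_cancel (h.swap_inj hab hs s1 (mul_swap hu e hk h1).1 (mul_swap hu e hk h1).2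
    (mul_swap hu e hd h2).1 (mul_swap hu e hd h2).2 (by
      rw [show u * k * s * (u * k)⁻¹ = u * (k * s * k⁻¹) * u⁻¹ by group, e']; group))

theorem Hyp.exists_fr (h : Hyp G Ω) (hab : a ≠ b) (hu : u * u = 1) (e : u • a = b) :
    ∃ K, Fr G a b u K := by
  obtain ⟨n, -, hn⟩ := h.exists_card a
  obtain ⟨T, f, hT⟩ := exists_lin (L := D G a b) (h.abelem a) (fun e => by simpa [e] using h.four a)
    (inf_le_left.trans (stab_le_norm a)) (fun e => h.odd_D hab (e.trans (relIndex_dvd_card _ _))) hn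
    fun s hs s1 t ht t1 => let ⟨k, hk, _, e⟩ := h.exists_conj hab hu e hs s1 ht t1; ⟨k, hk, e⟩
  have hN := (normalIn_inf_cent hT.norm).norm
  have h1 : u ∈ 𝐍(D G a b ⊓ 𝐂(A G a)) := cent_le_norm _ (mem_cent_iff.2 fun x hx =>
    mul_inv_eq_iff_eq_mul.1 (h.W_cent hab hx hu e))
  have h2 : ∀ k ∈ D G a b, u * k * u⁻¹ = k⁻¹ → k ∈ T := fun k hk e' => by
    have e1 : (k * u)⁻¹ * (u * k) = k * k := by
      nth_rw 3 [← inv_inv k]; rw [← e', BSW.inv_eq_of_mul_self hu, mul_inv_rev, mul_inv_rev,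
        mul_inv_rev, BSW.inv_eq_of_mul_self hu]
      simp only [mul_assoc]
    have := hT.mem_of_comm h1 (hT.mem_norm (swap_norm hu e) h1) (hN hk) (hT.normal.norm hk)
      (e1 ▸ mul_mem hk hk)
    obtain ⟨j, hj⟩ := exists_sqrt (h.odd_of_mem_D hab hk)
    rw [← hj, ← (Commute.refl k).mul_pow]
    exact pow_mem (e1 ▸ this) j
  obtain ⟨s, hs, s1⟩ := h.exists_A a
  obtain ⟨k, hk, h3, h4⟩ := h.exists_conj hab hu e hs s1
    (conj_mem_of_norm (hT.norm (hT.le hT.f_mem)) hs) (BSW.conj_ne_one s1)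
  have h5 := mem_cent_iff_conj.1 (hT.semireg _ (mul_mem (inv_mem hT.f_mem) (h2 k hk h3)) s hs s1 (by
    rw [mul_assoc, mul_inv_eq_iff_eq_mul.1 h4]; group))
  have h6 : ∀ i : ℕ, ∀ t ∈ A G a, k ^ i * t * (k ^ i)⁻¹ = f ^ i * t * (f ^ i)⁻¹ := fun i => by
    induction i with
    | zero => simp
    | succ i ih =>
      intro t ht
      calc _ = k ^ i * (k * t * k⁻¹) * (k ^ i)⁻¹ := by group
        _ = f ^ i * (f * (f⁻¹ * k * t * (f⁻¹ * k)⁻¹) * f⁻¹) * (f ^ i)⁻¹ := by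
          rw [ih _ (conj_mem_of_norm (hT.norm hk) ht)]; group
        _ = _ := by rw [h5 t ht]; group
  refine ⟨zpowers k, h, hab, hu, e, fun {x} => ⟨?_, fun hx => ?_⟩, inferInstance,
    fun t ht t1 x hx => hT.semireg x (hT.der_le hx.1) t ht t1 (mem_cent1.1 hx.2)⟩
  · rintro ⟨i, rfl⟩
    exact ⟨zpow_mem hk i, by rw [← conj_zpow, h3, inv_zpow]⟩
  · obtain ⟨i, hi⟩ := hT.gen x (h2 x hx.1 hx.2)
    rw [h.inverted_inj hab hu e hs s1 hx.1 hx.2 (pow_mem hk i) (by rw [← conj_pow, h3, inv_pow])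
      (by rw [h6 i s hs]; nth_rw 2 [← mem_cent_iff_conj.1 hi s hs]; group)]
    exact pow_mem (mem_zpowers k) i

namespace Fr

variable (h : Fr G a b u K)
include h

theorem ub : u • b = a := swap h.u2 h.ua

theorem K_le : K ≤ D G a b := fun _ hk => (h.mem_K.1 hk).1

theorem inv (hk : k ∈ K) : u * k * u⁻¹ = k⁻¹ := (h.mem_K.1 hk).2

theorem mul_mem_K (hw : w * w = 1) (e : w • a = b) : u * w ∈ K :=
  h.mem_K.2 ⟨mul_mem_D h.u2 h.ua hw e, by
    rw [mul_inv_rev, BSW.inv_eq_of_mul_self hw, ← mul_assoc, h.u2, one_mul]⟩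

theorem norm_K : D G a b ≤ 𝐍(K) := le_norm_iff.2 fun d hd k hk => by
  have key : ∀ w : G, w * w = 1 → w • a = b → u * (d * w * d⁻¹) ∈ K := fun w hw e =>
    h.mul_mem_K (BSW.conj_mul_self hw) (by nth_rw 1 [← hd.1]; rw [conj_smul_smul, e, hd.2])
  have h1 := mul_swap h.u2 h.ua (h.K_le hk) (h.inv hk)
  have := mul_mem (inv_mem (key u h.u2 h.ua)) (key _ h1.1 h1.2)
  rwa [show (u * (d * u * d⁻¹))⁻¹ * (u * (d * (u * k) * d⁻¹)) = d * k * d⁻¹ by group] at this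

theorem eq_one (hk : k ∈ K) (hs : s ∈ A G a) (s1 : s ≠ 1) (e : s * k = k * s) : k = 1 :=
  h.eq_one_of_inverted h.u2 (h.ua.symm ▸ h.ne.symm) (h.odd_of_mem_D h.ne (h.K_le hk)) (h.inv hk)
    hs s1 e

theorem exists_K (hs : s ∈ A G a) (s1 : s ≠ 1) (ht : t ∈ A G a) (t1 : t ≠ 1) :
    ∃ k ∈ K, k * s * k⁻¹ = t :=
  let ⟨k, h1, h2, h3⟩ := h.exists_conj h.ne h.u2 h.ua hs s1 ht t1
  ⟨k, h.mem_K.2 ⟨h1, h2⟩, h3⟩

theorem card_K : ♯K = ♯(A G a) - 1 := by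
  obtain ⟨s, hs, s1⟩ := h.exists_A a
  have h1 := card_inf_mul_relIndex 𝐂[s] K
  rw [show 𝐂[s] ⊓ K = ⊥ from eq_bot_iff.2 fun k hk => h.eq_one hk.2 hs s1 (mem_cent1.1 hk.1).symm,
    card_bot, one_mul, relIndex_centralizer_eq_ncard] at h1
  rw [← h1, ← ncard_sharp]
  congr 1
  refine Set.ext fun v => ⟨?_, fun hv => ?_⟩
  · rintro ⟨l, hl, rfl⟩
    exact conj_mem_sharp (stab_le_norm a (h.K_le hl).1) ⟨hs, s1⟩
  · obtain ⟨k, hk, e⟩ := h.exists_K hs s1 hv.1 hv.2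
    exact ⟨k, hk, e.symm⟩

/-- nontrivial elements of `K` fix only `a` and `b` -/
theorem eq_one_of_fix (hk : k ∈ K) (hac : a ≠ c) (hbc : b ≠ c) (e : k • c = c) : k = 1 :=
  mem_bot.1 (mem_of_forall_constt_mem fun p hp _ => by
    have h1 := constt_mem {p} hk
    obtain ⟨s, hs, s1, e'⟩ := h.good_elt hp (piElt_constt {p} k) h.ne hac hbc (h.K_le h1)
      (constt_mem (H := stabilizer G c) {p} e) (h.K_le h1).1
    exact h.eq_one h1 hs s1 (mem_cent1.1 e'))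

theorem cent_K (hk : k ∈ K) (k1 : k ≠ 1) (hy : y • a = a) (e : y * k = k * y) : y ∈ D G a b :=
  ⟨hy, by_contra fun e' => k1 (h.eq_one_of_fix hk
    (fun e1 => h.ne (smul_left_cancel y (hy.trans e1))) (Ne.symm e')
    (by rw [← mul_smul, ← e, mul_smul, (h.K_le hk).2]))⟩

theorem W_cent_K (hx : x ∈ D G a b ⊓ 𝐂(A G a)) (hk : k ∈ K) : x * k * x⁻¹ = k := by
  have h1 := mul_swap h.u2 h.ua (h.K_le hk) (h.inv hk)
  have h2 := h.W_cent h.ne hx h1.1 h1.2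
  rw [show x * (u * k) * x⁻¹ = x * u * x⁻¹ * (x * k * x⁻¹) by group,
    h.W_cent h.ne hx h.u2 h.ua] at h2
  exact mul_left_cancel h2

end Fr

end Cfsg.Agent.SEA
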